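import Cfsg.Agent.H28.AbelianSection
import Cfsg.Agent.H27.Dual
import Cfsg.Agent.H57.VChar

/-!
# Orbits of the normaliser on the linear characters of an abelian Sylow subgroup
-/

set_option autoImplicit false
set_option linter.unusedSectionVars false

open scoped ComplexConjugate

namespace Cfsg.Agent.H28.Ab

variable {G : Type*} [Group G] [Finite G] {p : ℕ} [Fact p.Prime] {P : Sylow p G} {m : ℕ}

/-- The linear characters conjugate to `ψ` under the normaliser. -/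
def orb (P : Sylow p G) (ψ : ↥(P : Subgroup G) →* ℂˣ) : Set (↥(P : Subgroup G) →* ℂˣ) :=
  {ψ' | ∃ n : G, n ∈ Subgroup.normalizer ((P : Subgroup G) : Set G) ∧
    ∀ w w' : ↥(P : Subgroup G), (w' : G) = n * w * n⁻¹ → ψ' w' = ψ w}

/-- Conjugation by an element of the normaliser. -/
def conjHom (P : Sylow p G) (n : Subgroup.normalizer ((P : Subgroup G) : Set G)) :
    ↥(P : Subgroup G) →* ↥(P : Subgroup G) where
  toFun w := ⟨(n : G) * w * (n : G)⁻¹, (Subgroup.mem_normalizer_iff.1 n.2 _).1 w.2⟩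
  map_one' := Subtype.ext (by simp)
  map_mul' a b := Subtype.ext (by simp [mul_assoc])

theorem coe_conjHom (n : Subgroup.normalizer ((P : Subgroup G) : Set G))
    (w : ↥(P : Subgroup G)) : (conjHom P n w : G) = (n : G) * w * (n : G)⁻¹ := rfl

theorem conjHom_mul (a b : Subgroup.normalizer ((P : Subgroup G) : Set G)) :
    conjHom P (a * b) = (conjHom P a).comp (conjHom P b) :=
  MonoidHom.ext fun w => Subtype.ext (by simp [coe_conjHom, mul_assoc])

theorem conjHom_one : conjHom P 1 = MonoidHom.id _ :=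
  MonoidHom.ext fun w => Subtype.ext (by simp [coe_conjHom])

/-- The action of the normaliser on linear characters. -/
noncomputable def act (n : Subgroup.normalizer ((P : Subgroup G) : Set G))
    (ψ : ↥(P : Subgroup G) →* ℂˣ) : ↥(P : Subgroup G) →* ℂˣ :=
  ψ.comp (conjHom P n⁻¹)

theorem act_mul (a b : Subgroup.normalizer ((P : Subgroup G) : Set G))
    (ψ : ↥(P : Subgroup G) →* ℂˣ) : act (a * b) ψ = act a (act b ψ) := by
  rw [act, act, act, mul_inv_rev, conjHom_mul, MonoidHom.comp_assoc]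

theorem act_one (ψ : ↥(P : Subgroup G) →* ℂˣ) : act 1 ψ = ψ := by
  rw [act, inv_one, conjHom_one, MonoidHom.comp_id]

theorem orb_eq_range (ψ : ↥(P : Subgroup G) →* ℂˣ) :
    orb P ψ = Set.range fun n => act n ψ := by
  ext ψ'
  constructor
  · rintro ⟨n, hn, h⟩
    refine ⟨⟨n, hn⟩, MonoidHom.ext fun w => (h _ w ?_).symm⟩
    simp [coe_conjHom, mul_assoc]
  · rintro ⟨n, rfl⟩
    refine ⟨n, n.2, fun w w' e => ?_⟩
    show ψ (conjHom P n⁻¹ w') = ψ w
    congr 1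
    exact Subtype.ext (by simp [coe_conjHom, e, mul_assoc])

theorem mem_orb_self (ψ : ↥(P : Subgroup G) →* ℂˣ) : ψ ∈ orb P ψ := by
  rw [orb_eq_range]; exact ⟨1, act_one ψ⟩

theorem orb_eq_of_mem {ψ ψ' : ↥(P : Subgroup G) →* ℂˣ} (h : ψ' ∈ orb P ψ) :
    orb P ψ' = orb P ψ := by
  rw [orb_eq_range] at h
  obtain ⟨n, rfl⟩ := h
  simp only [orb_eq_range, ← act_mul]
  exact (Equiv.mulRight n).surjective.range_comp fun k => act k ψ

theorem ne_one_of_mem_orb {ψ ψ' : ↥(P : Subgroup G) →* ℂˣ} (hψ : ψ ≠ 1) (h : ψ' ∈ orb P ψ) :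
    ψ' ≠ 1 := by
  rw [orb_eq_range] at h
  obtain ⟨n, rfl⟩ := h
  intro e
  apply hψ
  have e2 : act n⁻¹ (act n ψ) = 1 := by
    rw [show act n ψ = 1 from e]; exact MonoidHom.one_comp _
  rwa [← act_mul, inv_mul_cancel, act_one] at e2

/-- Elements of the normaliser fixing a nontrivial linear character centralise `P`. -/
theorem Ctx.mem_centralizer_of_act_eq (h : Ctx P m) {ψ : ↥(P : Subgroup G) →* ℂˣ} (hψ : ψ ≠ 1)
    {n : Subgroup.normalizer ((P : Subgroup G) : Set G)} (hn : act n ψ = ψ) :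
    (n : G) ∈ Subgroup.centralizer ((P : Subgroup G) : Set G) := by
  by_contra hnC
  let δ : ↥(P : Subgroup G) → ↥(P : Subgroup G) := fun w => conjHom P n⁻¹ w * w⁻¹
  have hinj : Function.Injective δ := by
    intro a b e
    by_contra hab
    have e1 : conjHom P n⁻¹ (b⁻¹ * a) = b⁻¹ * a := by
      rw [map_mul, map_inv, show conjHom P n⁻¹ a = δ a * a by simp [δ], e,
        show conjHom P n⁻¹ b = δ b * b by simp [δ], mul_inv_rev, mul_assoc, inv_mul_cancel_left]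
    have hne : ((b⁻¹ * a : ↥(P : Subgroup G)) : G) ≠ 1 := fun e' =>
      hab (inv_mul_eq_one.1 (Subtype.ext e' : (b⁻¹ * a) = 1)).symm
    refine hnC (inv_mem_iff.1 ((h.free _ (b⁻¹ * a).2 hne).le (Subgroup.mem_inf.2 ⟨?_, inv_mem n.2⟩)))
    rw [Subgroup.mem_centralizer_singleton_iff]
    have e2 := congrArg (Subtype.val) e1
    rw [coe_conjHom, Subgroup.coe_inv, mul_inv_eq_iff_eq_mul] at e2
    exact e2
  apply hψ
  refine MonoidHom.ext fun w => ?_
  obtain ⟨a, rfl⟩ := Finite.surjective_of_injective hinj w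
  rw [MonoidHom.one_apply]
  simp only [δ, map_mul, map_inv]
  rw [show ψ (conjHom P n⁻¹ a) = ψ a from DFunLike.congr_fun hn a, mul_inv_cancel]

/-- A nontrivial orbit has `m` members. -/
theorem Ctx.card_orb (h : Ctx P m) {ψ : ↥(P : Subgroup G) →* ℂˣ} (hψ : ψ ≠ 1) :
    Nat.card (orb P ψ) = m := by
  set N := Subgroup.normalizer ((P : Subgroup G) : Set G)
  set C := Subgroup.centralizer ((P : Subgroup G) : Set G)
  have hφ : ∀ n n' : N, act n ψ = act n' ψ ↔ QuotientGroup.leftRel (C.subgroupOf N) n n' := by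
    intro n n'
    rw [QuotientGroup.leftRel_apply, Subgroup.mem_subgroupOf]
    constructor
    · intro e
      refine h.mem_centralizer_of_act_eq hψ ?_
      rw [act_mul, ← e, ← act_mul, inv_mul_cancel, act_one]
    · intro e
      have hfix : act (n⁻¹ * n') ψ = ψ := by
        refine MonoidHom.ext fun w => congrArg ψ (Subtype.ext ?_)
        rw [coe_conjHom]
        have := Subgroup.mem_centralizer_iff.1 (inv_mem e) _ w.2
        rw [Subgroup.coe_inv] at *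
        rw [← this, mul_inv_cancel_right]
      calc act n ψ = act n (act (n⁻¹ * n') ψ) := by rw [hfix]
        _ = act n' ψ := by rw [← act_mul, mul_inv_cancel_left]
  let F : (N ⧸ C.subgroupOf N) → Set.range (fun n => act n ψ) :=
    Quotient.lift (fun n => ⟨act n ψ, n, rfl⟩) fun a b e => Subtype.ext ((hφ a b).2 e)
  have hb : Function.Bijective F := by
    refine ⟨fun a b => ?_, fun z => ?_⟩
    · induction a using Quotient.inductionOn
      induction b using Quotient.inductionOn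
      exact fun e => Quotient.sound ((hφ _ _).1 (congrArg Subtype.val e))
    · obtain ⟨_, n, rfl⟩ := z
      exact ⟨Quotient.mk'' n, rfl⟩
  rw [orb_eq_range, ← Nat.card_congr (Equiv.ofBijective F hb), ← Subgroup.index_eq_card]
  exact h.index

/-- The sum of the members of the orbit of `ψ`. -/
noncomputable def psi (P : Sylow p G) (ψ : ↥(P : Subgroup G) →* ℂˣ) (y : ↥(P : Subgroup G)) : ℂ :=
  ∑ᶠ ψ' ∈ orb P ψ, ((ψ' y : ℂˣ) : ℂ)

open scoped Classical in
theorem psi_eq_sum (ψ : ↥(P : Subgroup G) →* ℂˣ) (y : ↥(P : Subgroup G)) :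
    psi P ψ y = ∑ ψ' ∈ Finset.univ.filter (· ∈ orb P ψ), ((ψ' y : ℂˣ) : ℂ) := by
  rw [psi, finsum_mem_eq_finite_toFinset_sum _ (Set.toFinite _)]
  exact Finset.sum_congr (by ext; simp) fun _ _ => rfl

theorem psi_inv (ψ : ↥(P : Subgroup G) →* ℂˣ) : Inv P (psi P ψ) := by
  classical
  intro n hn w w' e
  rw [psi_eq_sum, psi_eq_sum]
  let k₀ : Subgroup.normalizer ((P : Subgroup G) : Set G) := ⟨n, hn⟩
  have hw : conjHom P k₀⁻¹ w' = w := Subtype.ext (by simp [coe_conjHom, k₀, e, mul_assoc])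
  refine (Finset.sum_bij (fun ψ' _ => act k₀ ψ') ?_ ?_ ?_ ?_).symm
  · intro ψ' hψ'
    simp only [Finset.mem_filter, Finset.mem_univ, true_and, orb_eq_range] at hψ' ⊢
    obtain ⟨k, rfl⟩ := hψ'
    exact ⟨k₀ * k, act_mul _ _ _⟩
  · intro a _ b _ hab
    have := congrArg (act k₀⁻¹) hab
    rwa [← act_mul, ← act_mul, inv_mul_cancel, act_one, act_one] at this
  · intro b hb
    refine ⟨act k₀⁻¹ b, ?_, by rw [← act_mul, mul_inv_cancel, act_one]⟩
    simp only [Finset.mem_filter, Finset.mem_univ, true_and, orb_eq_range] at hb ⊢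
    obtain ⟨k, rfl⟩ := hb
    exact ⟨k₀⁻¹ * k, act_mul _ _ _⟩
  · intro a _
    show ((a w : ℂˣ) : ℂ) = ((a (conjHom P k₀⁻¹ w') : ℂˣ) : ℂ)
    rw [hw]

theorem psi_gen (ψ : ↥(P : Subgroup G) →* ℂˣ) :
    Cfsg.IsGeneralizedCharacter ↥(P : Subgroup G) (psi P ψ) := by
  classical
  haveI := Fintype.ofFinite ↥(P : Subgroup G)
  rw [show psi P ψ = ∑ ψ' ∈ Finset.univ.filter (· ∈ orb P ψ),
    (fun y => ((ψ' y : ℂˣ) : ℂ)) from funext fun y => by rw [psi_eq_sum, Finset.sum_apply]]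
  exact H57.gen_sum fun ψ' _ => H57.gen_of_irr (H26.isIrrCharacter_hom ψ')

theorem Ctx.psi_one (h : Ctx P m) {ψ : ↥(P : Subgroup G) →* ℂˣ} (hψ : ψ ≠ 1) :
    psi P ψ 1 = (m : ℂ) := by
  classical
  rw [psi_eq_sum]
  simp only [map_one, Units.val_one, Finset.sum_const, nsmul_eq_mul, mul_one]
  rw [← Fintype.card_subtype, ← Nat.card_eq_fintype_card]
  exact congrArg _ (h.card_orb hψ)

/-- Sums of an invariant function against conjugate linear characters agree. -/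
theorem sum_mul_conj_orb [Fintype ↥(P : Subgroup G)] {g : ↥(P : Subgroup G) → ℂ} (hg : Inv P g)
    {ψ ψ' : ↥(P : Subgroup G) →* ℂˣ} (h : ψ' ∈ orb P ψ) :
    ∑ y, g y * conj ((ψ' y : ℂˣ) : ℂ) = ∑ y, g y * conj ((ψ y : ℂˣ) : ℂ) := by
  rw [orb_eq_range] at h
  obtain ⟨n, rfl⟩ := h
  let e : ↥(P : Subgroup G) ≃ ↥(P : Subgroup G) :=
    { toFun := conjHom P n⁻¹
      invFun := conjHom P n
      left_inv := fun w => Subtype.ext (by simp [coe_conjHom, mul_assoc])
      right_inv := fun w => Subtype.ext (by simp [coe_conjHom, mul_assoc]) }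
  refine Fintype.sum_equiv e _ _ fun y => ?_
  show g y * conj ((ψ (conjHom P n⁻¹ y) : ℂˣ) : ℂ) = g (conjHom P n⁻¹ y) * _
  rw [hg n n.2 (conjHom P n⁻¹ y) y (by simp [coe_conjHom, mul_assoc])]
  rfl

theorem Ctx.sum_mul_conj_psi [Fintype ↥(P : Subgroup G)] (h : Ctx P m)
    {g : ↥(P : Subgroup G) → ℂ} (hg : Inv P g) {ψ : ↥(P : Subgroup G) →* ℂˣ} (hψ : ψ ≠ 1) :
    ∑ y, g y * conj (psi P ψ y) = (m : ℂ) * ∑ y, g y * conj ((ψ y : ℂˣ) : ℂ) := by
  classical
  simp only [psi_eq_sum, map_sum, Finset.mul_sum]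
  rw [Finset.sum_comm, Finset.sum_congr rfl fun ψ' hψ' =>
    sum_mul_conj_orb hg (Finset.mem_filter.1 hψ').2, Finset.sum_const, nsmul_eq_mul, Finset.mul_sum]
  refine Finset.sum_congr rfl fun y _ => ?_
  congr 1
  rw [← Fintype.card_subtype, ← Nat.card_eq_fintype_card]
  exact congrArg _ (h.card_orb hψ)

open scoped Classical in
/-- Orthogonality of orbit sums. -/
theorem Ctx.sum_psi_mul_conj_psi [Fintype ↥(P : Subgroup G)] (h : Ctx P m)
    {ψ ψ' : ↥(P : Subgroup G) →* ℂˣ} (hψ : ψ ≠ 1) (hψ' : ψ' ≠ 1) :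
    ∑ y, psi P ψ y * conj (psi P ψ' y) =
      if ψ' ∈ orb P ψ then (m : ℂ) * Nat.card P else 0 := by
  haveI := h.comm
  rw [h.sum_mul_conj_psi (psi_inv ψ) hψ']
  simp only [psi_eq_sum, Finset.sum_mul]
  rw [Finset.sum_comm]
  have horth : ∀ χ : ↥(P : Subgroup G) →* ℂˣ,
      ∑ y, ((χ y : ℂˣ) : ℂ) * conj ((ψ' y : ℂˣ) : ℂ) =
        if χ = ψ' then (Nat.card P : ℂ) else 0 := by
    intro χ
    have e : ∀ y, ((χ y : ℂˣ) : ℂ) * conj ((ψ' y : ℂˣ) : ℂ) = (((χ * ψ'⁻¹) y : ℂˣ) : ℂ) := by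
      intro y
      rw [H27.conj_linear, map_inv, MonoidHom.mul_apply, MonoidHom.inv_apply, Units.val_mul]
    rw [Finset.sum_congr rfl fun y _ => e y]
    split_ifs with hc
    · subst hc; simp [Nat.card_eq_fintype_card]
    · exact H27.sum_apply_linear fun hh => hc (mul_inv_eq_one.1 hh)
  simp only [horth, Finset.sum_ite_eq', Finset.mem_filter, Finset.mem_univ, true_and, mul_ite,
    mul_zero]

/-- An orbit sum sums to zero over `P`. -/
theorem sum_psi [Fintype ↥(P : Subgroup G)] {ψ : ↥(P : Subgroup G) →* ℂˣ} (hψ : ψ ≠ 1) :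
    ∑ y, psi P ψ y = 0 := by
  classical
  simp only [psi_eq_sum]
  rw [Finset.sum_comm]
  exact Finset.sum_eq_zero fun ψ' hψ' =>
    H27.sum_apply_linear (ne_one_of_mem_orb hψ (Finset.mem_filter.1 hψ').2)

/-- A system of representatives of the nontrivial orbits. -/
structure Reps (P : Sylow p G) (r : ℕ) where
  /-- the representatives -/
  rep : Fin r → (↥(P : Subgroup G) →* ℂˣ)
  ne_one : ∀ i, rep i ≠ 1
  /-- the orbit number of a character -/
  idx : (↥(P : Subgroup G) →* ℂˣ) → Fin r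
  mem_orb_idx : ∀ ψ, ψ ≠ 1 → ψ ∈ orb P (rep (idx ψ))
  idx_eq : ∀ i ψ, ψ ∈ orb P (rep i) → idx ψ = i

theorem Reps.idx_rep {r : ℕ} (R : Reps P r) (i : Fin r) : R.idx (R.rep i) = i :=
  R.idx_eq i _ (mem_orb_self _)

theorem Reps.mem_orb_rep_iff {r : ℕ} (R : Reps P r) (i j : Fin r) :
    R.rep j ∈ orb P (R.rep i) ↔ i = j := by
  refine ⟨fun h => ?_, fun h => h ▸ mem_orb_self _⟩
  rw [← R.idx_eq i _ h, R.idx_rep]

/-- Representatives exist, and there are `(|P| - 1) / m` of them. -/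
theorem Ctx.exists_reps (h : Ctx P m) (hm : m + 1 < Nat.card P) :
    ∃ r : ℕ, r * m + 1 = Nat.card P ∧ Nonempty (Reps P r) := by
  classical
  haveI := h.comm
  let O : Finset (Set (↥(P : Subgroup G) →* ℂˣ)) :=
    (Finset.univ.filter fun ψ : ↥(P : Subgroup G) →* ℂˣ => ψ ≠ 1).image (orb P)
  let e : Fin O.card ≃ {x // x ∈ O} := O.equivFin.symm
  have he : ∀ i, ∃ ψ : ↥(P : Subgroup G) →* ℂˣ, ψ ≠ 1 ∧ orb P ψ = (e i).1 := fun i => by
    obtain ⟨ψ, hψ, hψe⟩ := Finset.mem_image.1 (e i).2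
    exact ⟨ψ, (Finset.mem_filter.1 hψ).2, hψe⟩
  choose rep hrep hrepe using he
  have hmem : ∀ ψ : ↥(P : Subgroup G) →* ℂˣ, ψ ≠ 1 → orb P ψ ∈ O := fun ψ hψ =>
    Finset.mem_image.2 ⟨ψ, Finset.mem_filter.2 ⟨Finset.mem_univ _, hψ⟩, rfl⟩
  have hdual : Fintype.card (↥(P : Subgroup G) →* ℂˣ) = Nat.card P := by
    rw [← Nat.card_eq_fintype_card, H27.card_linear]
  have hO : 0 < O.card := by
    obtain ⟨g, hg⟩ : ∃ g : ↥(P : Subgroup G), g ≠ 1 :=
      haveI : Nontrivial ↥(P : Subgroup G) := Finite.one_lt_card_iff_nontrivial.1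
        (show 1 < Nat.card P by omega)
      exists_ne 1
    obtain ⟨μ, hμ⟩ := H27.exists_linear_ne_one hg
    exact Finset.card_pos.2 ⟨_, hmem μ fun e => hμ (by rw [e, MonoidHom.one_apply])⟩
  let idx : (↥(P : Subgroup G) →* ℂˣ) → Fin O.card := fun ψ =>
    if hψ : ψ = 1 then ⟨0, hO⟩ else e.symm ⟨_, hmem ψ hψ⟩
  have h1 : ∀ ψ, ψ ≠ 1 → ψ ∈ orb P (rep (idx ψ)) := fun ψ hψ => by
    simp only [idx, dif_neg hψ, hrepe, Equiv.apply_symm_apply]
    exact mem_orb_self ψ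
  have h2 : ∀ i ψ, ψ ∈ orb P (rep i) → idx ψ = i := fun i ψ hψ => by
    have hne := ne_one_of_mem_orb (hrep i) hψ
    simp only [idx, dif_neg hne]
    rw [Equiv.symm_apply_eq]
    exact Subtype.ext ((orb_eq_of_mem hψ).trans (hrepe i))
  refine ⟨O.card, ?_, ⟨⟨rep, hrep, idx, h1, h2⟩⟩⟩
  have hsum := Finset.card_eq_sum_card_fiberwise
    (s := Finset.univ.filter fun ψ : ↥(P : Subgroup G) →* ℂˣ => ψ ≠ 1) (f := idx)
    (t := Finset.univ) (fun _ _ => Finset.mem_univ _)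
  have hfib : ∀ i, ((Finset.univ.filter fun ψ : ↥(P : Subgroup G) →* ℂˣ => ψ ≠ 1).filter
      fun ψ => idx ψ = i).card = m := by
    intro i
    rw [show ((Finset.univ.filter fun ψ : ↥(P : Subgroup G) →* ℂˣ => ψ ≠ 1).filter
      fun ψ => idx ψ = i) = Finset.univ.filter (· ∈ orb P (rep i)) from ?_,
      ← Fintype.card_subtype, ← Nat.card_eq_fintype_card]
    · exact h.card_orb (hrep i)
    ext ψ
    simp only [Finset.mem_filter, Finset.mem_univ, true_and]
    exact ⟨fun hψ => hψ.2 ▸ h1 ψ hψ.1, fun hψ => ⟨ne_one_of_mem_orb (hrep i) hψ, h2 i ψ hψ⟩⟩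
  rw [Finset.sum_congr rfl fun i _ => hfib i, Finset.sum_const, Finset.card_univ, Fintype.card_fin,
    smul_eq_mul] at hsum
  rw [← hsum, Finset.filter_ne', Finset.card_erase_of_mem (Finset.mem_univ _), Finset.card_univ,
    hdual]
  have : 0 < Nat.card P := Nat.card_pos
  omega

open scoped Classical in
/-- Sums over all nontrivial linear characters, orbit by orbit. -/
theorem Reps.sum_psi_eq {r : ℕ} (R : Reps P r) (F : (↥(P : Subgroup G) →* ℂˣ) → ℂ) :
    ∑ i, ∑ ψ ∈ Finset.univ.filter (· ∈ orb P (R.rep i)), F ψ =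
      ∑ ψ ∈ Finset.univ.filter (· ≠ (1 : ↥(P : Subgroup G) →* ℂˣ)), F ψ := by
  rw [← Finset.sum_fiberwise (Finset.univ.filter (· ≠ (1 : ↥(P : Subgroup G) →* ℂˣ))) R.idx F]
  refine Finset.sum_congr rfl fun i _ => Finset.sum_congr ?_ fun _ _ => rfl
  ext ψ
  simp only [Finset.mem_filter, Finset.mem_univ, true_and]
  exact ⟨fun hψ => ⟨ne_one_of_mem_orb (R.ne_one i) hψ, R.idx_eq i ψ hψ⟩,
    fun hψ => hψ.2 ▸ R.mem_orb_idx ψ hψ.1⟩

open scoped Classical in
/-- The orbit sums add up to the regular character less the trivial one. -/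
theorem Ctx.sum_reps_psi {r : ℕ} (h : Ctx P m) (R : Reps P r) {y : ↥(P : Subgroup G)}
    (hy : y ≠ 1) : ∑ i, psi P (R.rep i) y = -1 := by
  haveI := h.comm
  simp only [psi_eq_sum]
  rw [R.sum_psi_eq fun ψ => ((ψ y : ℂˣ) : ℂ)]
  have := H27.sum_linear_apply (C := ↥(P : Subgroup G)) y
  rw [if_neg hy, ← Finset.add_sum_erase _ _ (Finset.mem_univ (1 : ↥(P : Subgroup G) →* ℂˣ)),
    MonoidHom.one_apply, Units.val_one] at this
  rw [Finset.filter_ne']
  linear_combination this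

/-- An invariant function meeting all nontrivial orbit sums alike is constant off the identity. -/
theorem Ctx.eq_const [Fintype ↥(P : Subgroup G)] {r : ℕ} (h : Ctx P m) (R : Reps P r)
    {g : ↥(P : Subgroup G) → ℂ} (hg : Inv P g) (i₀ : Fin r)
    (hK : ∀ i, ∑ y, g y * conj (psi P (R.rep i) y) = ∑ y, g y * conj (psi P (R.rep i₀) y))
    {x : ↥(P : Subgroup G)} (hx : x ≠ 1) :
    g x = (Nat.card P : ℂ)⁻¹ * ∑ y, g y -
      (Nat.card P : ℂ)⁻¹ * ∑ y, g y * conj ((R.rep i₀ y : ℂˣ) : ℂ) := by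
  classical
  haveI := h.comm
  set c := (Nat.card P : ℂ)⁻¹ * ∑ y, g y * conj ((R.rep i₀ y : ℂˣ) : ℂ)
  have hc : ∀ μ : ↥(P : Subgroup G) →* ℂˣ, μ ≠ 1 →
      (Nat.card P : ℂ)⁻¹ * ∑ y, g y * ((μ y⁻¹ : ℂˣ) : ℂ) = c := by
    intro μ hμ
    have h1 := hK (R.idx μ)
    rw [h.sum_mul_conj_psi hg (R.ne_one _), h.sum_mul_conj_psi hg (R.ne_one _),
      ← sum_mul_conj_orb hg (R.mem_orb_idx μ hμ)] at h1
    have h2 := mul_left_cancel₀ (Nat.cast_ne_zero.2 h.pos.ne') h1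
    simp only [c, H27.conj_linear] at h2 ⊢
    rw [h2]
  rw [H27.fourier_inversion g x, ← Finset.add_sum_erase _ _
    (Finset.mem_univ (1 : ↥(P : Subgroup G) →* ℂˣ))]
  have hrest : ∑ μ ∈ Finset.univ.erase (1 : ↥(P : Subgroup G) →* ℂˣ),
      ((Nat.card P : ℂ)⁻¹ * ∑ y, g y * ((μ y⁻¹ : ℂˣ) : ℂ)) * ((μ x : ℂˣ) : ℂ) =
      c * ∑ μ ∈ Finset.univ.erase (1 : ↥(P : Subgroup G) →* ℂˣ), ((μ x : ℂˣ) : ℂ) := by
    rw [Finset.mul_sum]
    exact Finset.sum_congr rfl fun μ hμ => by rw [hc μ (Finset.mem_erase.1 hμ).1]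
  rw [hrest]
  have := H27.sum_linear_apply (C := ↥(P : Subgroup G)) x
  rw [if_neg hx, ← Finset.add_sum_erase _ _ (Finset.mem_univ (1 : ↥(P : Subgroup G) →* ℂˣ)),
    MonoidHom.one_apply, Units.val_one] at this
  simp only [MonoidHom.one_apply, Units.val_one, mul_one]
  linear_combination c * this

end Cfsg.Agent.H28.Ab
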