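import Cfsg.Agent.H28.AbelianDual
import Cfsg.Agent.H27.Exceptional
import Cfsg.Agent.H40.BlockDefect
import Cfsg.Agent.H40.BlockSets
import Cfsg.Agent.S0942
import Cfsg.Agent.S0947

/-!
# The principal block with abelian Sylow subgroup and cyclic semiregular automiser
-/

set_option autoImplicit false
set_option linter.unusedSectionVars false

open scoped ComplexConjugate

namespace Cfsg.Agent.H28.Ab

variable {G : Type*} [Group G] [Finite G] {p : ℕ} [Fact p.Prime] {P : Sylow p G} {m : ℕ}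
  {M : Ideal Cfsg.AlgInt}

/-- Restriction of a function to `P`. -/
def res (P : Sylow p G) (χ : Cfsg.IrrCharacter G) (y : ↥(P : Subgroup G)) : ℂ := χ.1 (y : G)

theorem res_inv (χ : Cfsg.IrrCharacter G) : Inv P (res P χ) := fun n _ w w' e => by
  rw [res, res, e, H26.irr_conj]

/-- A character of the principal block is constant on sections. -/
theorem Ctx.block_value (h : Ctx P m) (hM : Cfsg.IsPModular p M) {χ : Cfsg.IrrCharacter G}
    (hχ : χ ∈ Cfsg.principalBlock M G) {g x : G} {y : ↥(P : Subgroup G)} (hy : y ≠ 1)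
    (hx : Cfsg.IsPPart p g x) (hxy : IsConj x (y : G)) : χ.1 g = χ.1 (y : G) := by
  obtain ⟨c, hc⟩ := isConj_iff.1 hxy
  obtain ⟨v, hv, hcv, hord, hreg⟩ := H40.isPPart_conj c hx
  rw [hc] at hv hcv hord
  obtain ⟨O, hOn, hOp, hOi⟩ := h.exists_complement y.2 fun e => hy (Subtype.ext e)
  obtain ⟨k, hk⟩ := IsPGroup.iff_card.1 P.2
  have hvC : v ∈ Subgroup.centralizer ({(y : G)} : Set G) :=
    Subgroup.mem_centralizer_singleton_iff.2 hcv.eq.symm
  haveI := Fintype.ofFinite (Subgroup.centralizer ({(y : G)} : Set G))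
  have hvO := H41.mem_of_regular_of_index O ⟨k, hOi.trans hk⟩ (g := ⟨v, hvC⟩)
    (by rwa [Subgroup.orderOf_mk])
  have hcore : v ∈ Cfsg.centralizerPPrimeCore p (y : G) :=
    ⟨⟨v, hvC⟩, H19.le_pPrimeCore hOn
      ((Nat.Prime.coprime_iff_not_dvd Fact.out).2 hOp).symm hvO, rfl⟩
  rw [← H26.irr_conj χ g c, ← hv]
  exact S0942.result p M hM (y : G) hord v hcore χ hχ

/-- Off the regular elements a character of the principal block is a lift. -/
theorem Ctx.block_eq_lift (h : Ctx P m) (hM : Cfsg.IsPModular p M) {χ : Cfsg.IrrCharacter G}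
    (hχ : χ ∈ Cfsg.principalBlock M G) {g : G} (hg : p ∣ orderOf g) :
    χ.1 g = lift P (res P χ) g := by
  obtain ⟨y, x, hx, hxy⟩ := exists_rep P g
  rw [h.lift_eq (res_inv χ) hx hxy]
  refine h.block_value hM hχ (fun e => ?_) hx hxy
  subst e
  exact (H40.regular_iff_pPart_eq_one hx).2 (by simpa using hxy) hg

open scoped Classical in
/-- The square norm of the principal block on a section. -/
theorem Ctx.block_norm (h : Ctx P m) (hM : Cfsg.IsPModular p M) {y : ↥(P : Subgroup G)}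
    (hy : y ≠ 1) :
    ∑ χ ∈ Finset.univ.filter (· ∈ Cfsg.principalBlock M G), χ.1 (y : G) * conj (χ.1 (y : G)) =
      (Nat.card P : ℂ) := by
  obtain ⟨O, hOn, hOp, hOi⟩ := h.exists_complement y.2 fun e => hy (Subtype.ext e)
  obtain ⟨k, hk⟩ := IsPGroup.iff_card.1 P.2
  have hidx : ∃ j, (Cfsg.pPrimeCore p (Subgroup.centralizer ({(y : G)} : Set G))).index = p ^ j := by
    have hdvd := Subgroup.index_dvd_of_le (H19.le_pPrimeCore hOn
      ((Nat.Prime.coprime_iff_not_dvd Fact.out).2 hOp).symm)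
    rw [hOi, hk] at hdvd
    obtain ⟨j, -, hj⟩ := (Nat.dvd_prime_pow Fact.out).1 hdvd
    exact ⟨j, hj⟩
  have hfac : p ^ (Nat.card (Subgroup.centralizer ({(y : G)} : Set G))).factorization p =
      Nat.card P := by
    rw [← O.card_mul_index, hOi, hk, Nat.factorization_mul Nat.card_pos.ne'
      (pow_ne_zero _ (Fact.out : p.Prime).ne_zero), Finsupp.add_apply,
      Nat.factorization_eq_zero_of_not_dvd hOp, (Fact.out : p.Prime).factorization_pow,
      Finsupp.single_eq_same, zero_add]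
  have := (S0947.result p M hM (y : G) (exists_orderOf y) (fun e => hy (Subtype.ext e)) 1
    (by simp [(Fact.out : p.Prime).ne_one])).2 hidx
  rw [hfac, finsum_mem_eq_finite_toFinset_sum _ (Set.toFinite _)] at this
  have h2 := congrArg (fun x : ℝ => (x : ℂ)) this
  simp only [OneMemClass.coe_one, mul_one, Complex.ofReal_sum, Complex.ofReal_pow,
    Complex.ofReal_natCast] at h2
  rw [← h2]
  refine Finset.sum_congr (by ext; simp) fun χ _ => ?_
  rw [Complex.mul_conj']

open scoped Classical in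
/-- Characters outside the principal block sum to zero over sections. -/
theorem Ctx.sum_section_eq_zero [Fintype G] (h : Ctx P m) (hM : Cfsg.IsPModular p M)
    {η : Cfsg.IrrCharacter G} (hη : η ∉ Cfsg.principalBlock M G) {y : ↥(P : Subgroup G)}
    (hy : y ≠ 1) : ∑ g ∈ section' p (y : G), η.1 g = 0 := by
  set S := section' p (y : G) with hSdef
  have hy' : (y : G) ≠ 1 := fun e => hy (Subtype.ext e)
  set f : G → ℂ := fun g => if g ∈ S then 1 else 0 with hfdef
  have hf : Cfsg.IsClassFunction G f := by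
    intro g c
    have : c * g * c⁻¹ ∈ S ↔ g ∈ S := by
      simp only [hSdef, mem_section']
      constructor
      · rintro ⟨x, hx, hxy⟩
        refine ⟨_, by simpa [mul_assoc] using H40.isPPart_conj c⁻¹ hx, ?_⟩
        exact (isConj_iff.2 ⟨c, by group⟩ : IsConj (c⁻¹ * (x * c)) x).trans hxy
      · rintro ⟨x, hx, hxy⟩
        exact ⟨_, H40.isPPart_conj c hx, (isConj_iff.2 ⟨c, rfl⟩ : IsConj x _).symm.trans hxy⟩
    simp only [hfdef, this]
  have hin : ∀ χ : Cfsg.IrrCharacter G, Cfsg.classInner f χ.1 =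
      (Nat.card G : ℂ)⁻¹ * conj (∑ g ∈ S, χ.1 g) := by
    intro χ
    rw [Cfsg.classInner, map_sum]
    congr 1
    simp only [hfdef, ite_mul, one_mul, zero_mul]
    rw [← Finset.sum_filter, Finset.filter_univ_mem]
  have hS : (S.card : ℂ) = (Nat.card G : ℂ) / Nat.card P := by
    rw [eq_div_iff (Nat.cast_ne_zero.2 Nat.card_pos.ne'), ← Nat.cast_mul,
      h.card_section y.2 hy']
  have hself : Cfsg.classInner f f = (Nat.card P : ℂ)⁻¹ := by
    rw [Cfsg.classInner]
    simp only [hfdef, ite_mul, one_mul, zero_mul, apply_ite (conj : ℂ → ℂ), map_one, map_zero,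
      ← ite_and, and_self]
    rw [← Finset.sum_filter, Finset.filter_univ_mem, Finset.sum_const, nsmul_eq_mul, mul_one, hS]
    field_simp
  have hpar : Cfsg.classInner f f =
      ∑ χ : Cfsg.IrrCharacter G, Cfsg.classInner f χ.1 * conj (Cfsg.classInner f χ.1) := by
    conv_lhs => arg 1; rw [H26.class_function_expansion f hf]
    rw [H26.classInner_sum_left]
    exact Finset.sum_congr rfl fun χ _ => by rw [H26.classInner_smul_left, H26.classInner_comm f χ.1]
  have hB : ∑ χ ∈ Finset.univ.filter (· ∈ Cfsg.principalBlock M G),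
      Cfsg.classInner f χ.1 * conj (Cfsg.classInner f χ.1) = (Nat.card P : ℂ)⁻¹ := by
    have e : ∀ χ ∈ Finset.univ.filter (· ∈ Cfsg.principalBlock M G),
        Cfsg.classInner f χ.1 * conj (Cfsg.classInner f χ.1) =
          ((Nat.card P : ℂ)⁻¹ * (Nat.card P : ℂ)⁻¹) * (χ.1 (y : G) * conj (χ.1 (y : G))) := by
      intro χ hχ
      have hval : ∀ g ∈ S, χ.1 g = χ.1 (y : G) := fun g hg => by
        obtain ⟨x, hx, hxy⟩ := mem_section'.1 hg
        exact h.block_value hM (Finset.mem_filter.1 hχ).2 hy hx hxy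
      rw [hin, Finset.sum_congr rfl hval, Finset.sum_const, nsmul_eq_mul, hS]
      simp only [map_mul, map_inv₀, map_div₀, map_natCast, Complex.conj_conj]
      have : (Nat.card G : ℂ) ≠ 0 := Nat.cast_ne_zero.2 Nat.card_pos.ne'
      field_simp
    rw [Finset.sum_congr rfl e, ← Finset.mul_sum, h.block_norm hM hy]
    field_simp
  rw [hself, ← Finset.sum_filter_add_sum_filter_not Finset.univ (· ∈ Cfsg.principalBlock M G),
    hB, left_eq_add] at hpar
  simp only [Complex.mul_conj] at hpar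
  rw [← Complex.ofReal_sum, Complex.ofReal_eq_zero, Finset.sum_eq_zero_iff_of_nonneg
    fun χ _ => Complex.normSq_nonneg _] at hpar
  have := Complex.normSq_eq_zero.1 (hpar η (by simp [hη]))
  rw [hin, mul_eq_zero] at this
  exact (map_eq_zero _).1 (this.resolve_left (inv_ne_zero (Nat.cast_ne_zero.2 Nat.card_pos.ne')))

open scoped Classical in
/-- Lifts vanishing at `1` have no constituents outside the principal block. -/
theorem Ctx.classInner_lift_notMem [Fintype G] (h : Ctx P m) (hM : Cfsg.IsPModular p M)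
    {f : ↥(P : Subgroup G) → ℂ} (hf : Inv P f) (h1 : f 1 = 0) {η : Cfsg.IrrCharacter G}
    (hη : η ∉ Cfsg.principalBlock M G) : Cfsg.classInner (lift P f) η.1 = 0 := by
  haveI := Fintype.ofFinite ↥(P : Subgroup G)
  have key : (m : ℂ) * ∑ g : G, lift P f g * conj (η.1 g) = 0 := by
    calc (m : ℂ) * ∑ g : G, lift P f g * conj (η.1 g)
        = ∑ g : G, ∑ y : ↥(P : Subgroup G),
            (if g ∈ section' p (y : G) then f y else 0) * conj (η.1 g) := by
          rw [Finset.mul_sum]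
          refine Finset.sum_congr rfl fun g _ => ?_
          rw [← Finset.sum_mul, h.sum_ite_section hf h1, mul_assoc]
      _ = ∑ y : ↥(P : Subgroup G), f y * conj (∑ g ∈ section' p (y : G), η.1 g) := by
          rw [Finset.sum_comm]
          refine Finset.sum_congr rfl fun y _ => ?_
          simp only [ite_mul, zero_mul, map_sum, Finset.mul_sum]
          rw [← Finset.sum_filter, Finset.filter_univ_mem]
      _ = 0 := Finset.sum_eq_zero fun y _ => by
          by_cases hy : y = 1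
          · rw [hy, h1, zero_mul]
          · rw [h.sum_section_eq_zero hM hη hy, map_zero, mul_zero]
  rw [Cfsg.classInner, (mul_eq_zero.1 key).resolve_left (Nat.cast_ne_zero.2 h.pos.ne'), mul_zero]

/-- The Fourier coefficients of a generalized character of `P` are integers. -/
theorem exists_int_coeff [Fintype ↥(P : Subgroup G)] {θ : ↥(P : Subgroup G) → ℂ}
    (hθ : Cfsg.IsGeneralizedCharacter ↥(P : Subgroup G) θ) (μ : ↥(P : Subgroup G) →* ℂˣ) :
    ∃ z : ℤ, (Nat.card P : ℂ)⁻¹ * ∑ y, θ y * conj ((μ y : ℂˣ) : ℂ) = (z : ℂ) := by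
  obtain ⟨a, b, ⟨n, ρ, rfl⟩, ⟨k, σ, rfl⟩, rfl⟩ := hθ
  obtain ⟨u, hu⟩ := H27.exists_nat_inner_linear ρ μ
  obtain ⟨v, hv⟩ := H27.exists_nat_inner_linear σ μ
  refine ⟨(u : ℤ) - v, ?_⟩
  simp only [Pi.sub_apply, sub_mul, Finset.sum_sub_distrib, mul_sub, H27.conj_linear]
  rw [hu, hv]
  push_cast
  ring

/-- The restriction of a character to `P` is a generalized character. -/
theorem res_gen (χ : Cfsg.IrrCharacter G) :
    Cfsg.IsGeneralizedCharacter ↥(P : Subgroup G) (res P χ) :=
  H57.gen_of_char (H26.isCharacter_comp (H26.irr_isCharacter χ) (P : Subgroup G).subtype)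

open scoped Classical in
/-- The decomposition of the principal block. -/
structure Exc (M : Ideal Cfsg.AlgInt) (P : Sylow p G) (m r : ℕ) where
  /-- representatives of the orbits -/
  R : Reps P r
  /-- the exceptional characters -/
  mu : Fin r → Cfsg.IrrCharacter G
  /-- the other members of the block -/
  X : Finset (Cfsg.IrrCharacter G)
  /-- the constant values -/
  a : Cfsg.IrrCharacter G → ℤ
  /-- the common constant of the exceptional characters -/
  d : ℤ
  /-- the sign -/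
  e : ℤ
  e_unit : e = 1 ∨ e = -1
  two_le : 2 ≤ r
  card : r * m + 1 = Nat.card P
  mu_inj : Function.Injective mu
  block : Cfsg.principalBlock M G = ↑X ∪ Set.range mu
  notMem : ∀ i, mu i ∉ X
  one_mem : H26.oneIrr G ∈ X
  a_ne : ∀ χ ∈ X, a χ ≠ 0
  a_one : a (H26.oneIrr G) = 1
  val_X : ∀ χ ∈ X, ∀ y : ↥(P : Subgroup G), y ≠ 1 → χ.1 (y : G) = (a χ : ℂ)
  val_mu : ∀ i, ∀ y : ↥(P : Subgroup G), y ≠ 1 →
    (mu i).1 (y : G) = (d : ℂ) + (e : ℂ) * psi P (R.rep i) y
  norm : ∑ χ ∈ X, a χ ^ 2 + (r : ℤ) * d ^ 2 - 2 * d * e = m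
  reg : ∀ i j, ∀ g : G, ¬ p ∣ orderOf g → (mu i).1 g = (mu j).1 g
  rel : ∀ i, ∀ g : G, ¬ p ∣ orderOf g →
    ((r : ℂ) * d - e) * (mu i).1 g + ∑ χ ∈ X, (a χ : ℂ) * χ.1 g = 0

namespace Exc

open scoped Classical in
/-- Summation over the block. -/
theorem sum_block {r : ℕ} (E : Exc M P m r) (F : Cfsg.IrrCharacter G → ℂ) :
    ∑ χ ∈ Finset.univ.filter (· ∈ Cfsg.principalBlock M G), F χ =
      ∑ χ ∈ E.X, F χ + ∑ i, F (E.mu i) := by
  rw [← Finset.sum_image (f := F) (fun i _ j _ h => E.mu_inj h), ← Finset.sum_union]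
  · refine Finset.sum_congr ?_ fun _ _ => rfl
    ext χ
    simp [E.block]
  · rw [Finset.disjoint_left]
    intro χ hχ hi
    obtain ⟨i, -, rfl⟩ := Finset.mem_image.1 hi
    exact E.notMem i hχ

theorem mem_block_of_mem {r : ℕ} (E : Exc M P m r) {χ : Cfsg.IrrCharacter G} (h : χ ∈ E.X) :
    χ ∈ Cfsg.principalBlock M G := by
  rw [E.block]; exact Or.inl h

theorem mu_mem_block {r : ℕ} (E : Exc M P m r) (i : Fin r) :
    E.mu i ∈ Cfsg.principalBlock M G := by
  rw [E.block]; exact Or.inr ⟨i, rfl⟩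

end Exc

open scoped Classical in
/-- The principal block with abelian Sylow subgroup and semiregular automiser. -/
theorem Ctx.exists_exc [Fintype G] (h : Ctx P m) (hM : Cfsg.IsPModular p M)
    (hm : m + 1 < Nat.card P) : ∃ r, Nonempty (Exc M P m r) := by
  haveI := hM.2.1
  haveI := Fintype.ofFinite ↥(P : Subgroup G)
  obtain ⟨r, hr, ⟨R⟩⟩ := h.exists_reps hm
  have hr2 : 2 ≤ r := by
    rcases r with _ | _ | r <;> first | omega | (simp at hr; omega)
  let i₀ : Fin r := ⟨0, by omega⟩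
  set Φ : Fin r → ↥(P : Subgroup G) → ℂ := fun i => psi P (R.rep i) - psi P (R.rep i₀) with hΦ
  have hΦi : ∀ i, Inv P (Φ i) := fun i n hn w w' e => by
    simp only [hΦ, Pi.sub_apply, psi_inv _ n hn w w' e]
  have hΦ1 : ∀ i, Φ i 1 = 0 := fun i => by
    simp only [hΦ, Pi.sub_apply, h.psi_one (R.ne_one _), sub_self]
  set τ : Fin r → G → ℂ := fun i => lift P (Φ i) with hτdef
  set δ : Fin r → Fin r → ℂ := fun i j => if i = j then 1 else 0 with hδ
  have horth : ∀ i j, ∑ y, psi P (R.rep i) y * conj (psi P (R.rep j) y) =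
      (m : ℂ) * Nat.card P * δ i j := fun i j => by
    rw [h.sum_psi_mul_conj_psi (R.ne_one i) (R.ne_one j)]
    simp only [R.mem_orb_rep_iff, hδ, mul_ite, mul_one, mul_zero]
  have hmP : (m : ℂ) * (Nat.card P : ℂ) ≠ 0 :=
    mul_ne_zero (Nat.cast_ne_zero.2 h.pos.ne') (Nat.cast_ne_zero.2 Nat.card_pos.ne')
  obtain ⟨εc, hεc, μc, hμirr, hμinj, hμτ⟩ := H27.exists_exceptional i₀ τ
    (funext fun g => by
      obtain ⟨y, x, hx, hxy⟩ := exists_rep P g
      show lift P (Φ i₀) g = 0
      rw [h.lift_eq (hΦi i₀) hx hxy]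
      simp [hΦ])
    (fun i => h.lift_gen (hΦi i) (H57.gen_sub (psi_gen _) (psi_gen _)))
    (fun i => by
      show lift P (Φ i) 1 = 0
      rw [h.lift_regular (hΦi i) (by simp [(Fact.out : p.Prime).ne_one]), hΦ1])
    (fun i j hi hj => by
      show Cfsg.classInner (lift P (Φ i)) (lift P (Φ j)) = _
      rw [h.classInner_lift (hΦi i) (hΦi j) (hΦ1 i) fun g _ => rfl]
      simp only [hΦ, Pi.sub_apply, map_sub, sub_mul, mul_sub, Finset.sum_sub_distrib, horth]
      simp only [hδ, if_neg hi, if_neg (Ne.symm hj), if_true]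
      simp only [inv_mul_cancel_left₀ hmP]
      split_ifs <;> norm_num)
  obtain ⟨e, he, rfl⟩ : ∃ e : ℤ, (e = 1 ∨ e = -1) ∧ εc = (e : ℂ) := by
    rcases hεc with rfl | rfl
    exacts [⟨1, Or.inl rfl, by simp⟩, ⟨-1, Or.inr rfl, by simp⟩]
  have he2 : (e : ℂ) * e = 1 := by rcases he with rfl | rfl <;> simp
  have he0 : (e : ℂ) ≠ 0 := by rcases he with rfl | rfl <;> simp
  let mu : Fin r → Cfsg.IrrCharacter G := fun i => ⟨μc i, hμirr i⟩
  have hmuinj : Function.Injective mu := fun i j hij => hμinj (congrArg Subtype.val hij)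
  set κ : Fin r → Cfsg.IrrCharacter G → ℂ := fun i χ => if mu i = χ then 1 else 0 with hκ
  have hcoef : ∀ i χ, Cfsg.classInner (τ i) χ.1 = (e : ℂ) * (κ i χ - κ i₀ χ) := by
    intro i χ
    rw [hμτ i, H26.classInner_smul_left, H26.classInner_sub_left]
    exact congrArg _ (congrArg₂ _ (H26.classInner_irr (mu i) χ) (H26.classInner_irr (mu i₀) χ))
  have hnotB : ∀ i χ, χ ∉ Cfsg.principalBlock M G → Cfsg.classInner (τ i) χ.1 = 0 :=
    fun i χ hχ => h.classInner_lift_notMem hM (hΦi i) (hΦ1 i) hχ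
  obtain ⟨i₁, hi₁⟩ : ∃ i : Fin r, i ≠ i₀ := ⟨⟨1, by omega⟩, by simp [i₀, Fin.ext_iff]⟩
  have hmuB : ∀ i, mu i ∈ Cfsg.principalBlock M G := by
    intro i
    by_contra hi
    by_cases h0 : i = i₀
    · subst h0
      have := hnotB i₁ _ hi
      rw [hcoef] at this
      simp [hκ, hmuinj.ne hi₁, he0] at this
    · have := hnotB i _ hi
      rw [hcoef] at this
      simp [hκ, hmuinj.ne (Ne.symm h0), he0] at this
  have hone : ∀ i, mu i ≠ H26.oneIrr G := by
    have h1 : ∀ i, Cfsg.classInner (τ i) (H26.oneIrr G).1 = 0 := fun i => by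
      rw [h.classInner_lift (hΦi i) (f' := fun _ => 1) (fun _ _ _ _ _ => rfl) (hΦ1 i) fun g _ => ?_]
      · simp only [map_one, mul_one, hΦ, Pi.sub_apply, Finset.sum_sub_distrib,
          sum_psi (R.ne_one _), sub_self, mul_zero]
      · obtain ⟨y, x, hx, hxy⟩ := exists_rep P g
        rw [h.lift_eq (fun _ _ _ _ _ => rfl) hx hxy, H26.oneIrr_val]
    intro i hi
    by_cases h0 : i = i₀
    · subst h0
      have := h1 i₁
      rw [hcoef, ← hi] at this
      simp [hκ, hmuinj.ne hi₁, he0] at this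
    · have := h1 i
      rw [hcoef, ← hi] at this
      simp [hκ, hmuinj.ne (Ne.symm h0), he0] at this
  -- the parts off the orbit sums are constant
  let g : Cfsg.IrrCharacter G → ↥(P : Subgroup G) → ℂ := fun χ y =>
    res P χ y - (e : ℂ) * ∑ j, κ j χ * psi P (R.rep j) y
  have hginv : ∀ χ, Inv P (g χ) := fun χ n hn w w' ee => by
    simp only [g, res_inv χ n hn w w' ee, psi_inv _ n hn w w' ee]
  have hggen : ∀ χ, Cfsg.IsGeneralizedCharacter ↥(P : Subgroup G) (g χ) := by
    intro χ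
    have : g χ = res P χ - e • ∑ j ∈ Finset.univ.filter (fun j => mu j = χ), psi P (R.rep j) := by
      funext y
      simp only [g, hκ, Pi.sub_apply, Pi.smul_apply, Finset.sum_apply, ite_mul, one_mul, zero_mul,
        ← Finset.sum_filter, zsmul_eq_mul, Pi.mul_apply, Pi.intCast_apply]
    rw [this]
    exact H57.gen_sub (res_gen χ) (H57.gen_zsmul (H57.gen_sum fun j _ => psi_gen _) e)
  have hconst : ∀ χ ∈ Cfsg.principalBlock M G, ∃ z : ℤ, ∀ y : ↥(P : Subgroup G), y ≠ 1 →
      g χ y = (z : ℂ) := by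
    intro χ hχ
    have hK : ∀ i, ∑ y, g χ y * conj (psi P (R.rep i) y) =
        ∑ y, g χ y * conj (psi P (R.rep i₀) y) := by
      intro i
      rw [← sub_eq_zero, ← Finset.sum_sub_distrib]
      have h1 : ∑ y, g χ y * conj (Φ i y) = 0 := by
        have h2 : ∑ y, res P χ y * conj (Φ i y) =
            (e : ℂ) * ((m : ℂ) * Nat.card P) * (κ i χ - κ i₀ χ) := by
          have h3 := h.classInner_lift (hΦi i) (res_inv χ) (hΦ1 i) (θ := χ.1)
            fun g hg => h.block_eq_lift hM hχ hg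
          rw [show lift P (Φ i) = τ i from rfl, hcoef, eq_inv_mul_iff_mul_eq₀ hmP] at h3
          have h4 := congrArg conj h3
          simp only [map_sum, map_mul, map_sub, map_natCast, map_intCast, Complex.conj_conj,
            hκ, apply_ite (conj : ℂ → ℂ), map_one, map_zero] at h4
          simp only [hκ]
          rw [Finset.sum_congr rfl fun y _ => mul_comm (res P χ y) (conj (Φ i y)), ← h4]
          ring
        have h5 : ∑ y, (∑ j, κ j χ * psi P (R.rep j) y) * conj (Φ i y) =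
            (m : ℂ) * Nat.card P * (κ i χ - κ i₀ χ) := by
          simp only [Finset.sum_mul, mul_assoc]
          rw [Finset.sum_comm]
          simp only [← Finset.mul_sum, hΦ, Pi.sub_apply, map_sub, mul_sub, Finset.sum_sub_distrib,
            horth]
          simp only [hδ, mul_ite, mul_one, mul_zero, Finset.sum_ite_eq', Finset.mem_univ, if_true]
          ring
        simp only [g, sub_mul, Finset.sum_sub_distrib, mul_assoc, ← Finset.mul_sum]
        rw [h2, h5]
        ring
      rw [← h1]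
      exact Finset.sum_congr rfl fun y _ => by simp only [hΦ, Pi.sub_apply, map_sub, mul_sub]
    obtain ⟨u, hu⟩ := exists_int_coeff (hggen χ) 1
    obtain ⟨v, hv⟩ := exists_int_coeff (hggen χ) (R.rep i₀)
    refine ⟨u - v, fun y hy => ?_⟩
    rw [h.eq_const R (hginv χ) i₀ hK hy, hv, Int.cast_sub, ← hu]
    simp
  choose! z hz using hconst
  obtain ⟨y₀, hy₀⟩ : ∃ y : ↥(P : Subgroup G), y ≠ 1 :=
    haveI : Nontrivial ↥(P : Subgroup G) := Finite.one_lt_card_iff_nontrivial.1
      (show 1 < Nat.card P by omega)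
    exists_ne 1
  have hgmu : ∀ i y, g (mu i) y = res P (mu i) y - (e : ℂ) * psi P (R.rep i) y := fun i y => by
    simp [g, hκ, hmuinj.eq_iff]
  have hd : ∀ i, z (mu i) = z (mu i₀) := by
    intro i
    have h1 := congrFun (hμτ i) (y₀ : G)
    rw [show τ i (y₀ : G) = Φ i y₀ from h.lift_eq (hΦi i) (isPPart_self y₀) (IsConj.refl _)] at h1
    have h2 := hz (mu i) (hmuB i) y₀ hy₀
    have h3 := hz (mu i₀) (hmuB i₀) y₀ hy₀
    rw [hgmu] at h2 h3
    simp only [res, hΦ, Pi.sub_apply, Pi.smul_apply, smul_eq_mul, mu] at h1 h2 h3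
    apply Int.cast_injective (α := ℂ)
    rw [← h2, ← h3]
    linear_combination (-(e : ℂ)) * h1 - (μc i (y₀ : G) - μc i₀ (y₀ : G)) * he2
  set X := Finset.univ.filter fun χ => χ ∈ Cfsg.principalBlock M G ∧ χ ∉ Set.range mu with hXdef
  have hone_mem : H26.oneIrr G ∈ Cfsg.principalBlock M G := H41.mem_blockOf_self (H26.oneIrr G)
  have honeX : H26.oneIrr G ∈ X :=
    Finset.mem_filter.2 ⟨Finset.mem_univ _, hone_mem, fun ⟨i, hi⟩ => hone i hi⟩
  have hvalX : ∀ χ ∈ X, ∀ y : ↥(P : Subgroup G), y ≠ 1 → χ.1 (y : G) = (z χ : ℂ) := by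
    intro χ hχ y hy
    obtain ⟨-, hB, hr'⟩ := Finset.mem_filter.1 hχ
    rw [← hz χ hB y hy]
    simp [g, res, hκ, show ∀ j, mu j ≠ χ from fun j hj => hr' ⟨j, hj⟩]
  have hvalmu : ∀ i, ∀ y : ↥(P : Subgroup G), y ≠ 1 →
      (mu i).1 (y : G) = (z (mu i₀) : ℂ) + (e : ℂ) * psi P (R.rep i) y := by
    intro i y hy
    rw [← hd i, ← hz (mu i) (hmuB i) y hy, hgmu]
    simp [res]
  have haone : z (H26.oneIrr G) = 1 := by
    have := hvalX _ honeX y₀ hy₀
    rw [H26.oneIrr_val] at this
    exact_mod_cast this.symm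
  have hblock : Cfsg.principalBlock M G = ↑X ∪ Set.range mu := by
    ext χ
    simp only [hXdef, Finset.coe_filter, Finset.mem_univ, true_and, Set.mem_union,
      Set.mem_setOf_eq]
    exact ⟨fun hc => (em (χ ∈ Set.range mu)).elim Or.inr fun hn => Or.inl ⟨hc, hn⟩,
      fun hc => hc.elim And.left fun ⟨i, hi⟩ => hi ▸ hmuB i⟩
  have hnot : ∀ i, mu i ∉ X := fun i hi => (Finset.mem_filter.1 hi).2.2 ⟨i, rfl⟩
  have hreg : ∀ i j, ∀ g : G, ¬ p ∣ orderOf g → (mu i).1 g = (mu j).1 g := by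
    have h0 : ∀ i, ∀ g : G, ¬ p ∣ orderOf g → (mu i).1 g = (mu i₀).1 g := by
      intro i g hg
      have := congrFun (hμτ i) g
      rw [show τ i g = Φ i 1 from h.lift_regular (hΦi i) hg, hΦ1, Pi.smul_apply, Pi.sub_apply,
        smul_eq_mul, eq_comm, mul_eq_zero] at this
      exact sub_eq_zero.1 (this.resolve_left he0)
    intro i j g hg
    rw [h0 i g hg, h0 j g hg]
  -- summation over the block
  have hsum : ∀ F : Cfsg.IrrCharacter G → ℂ,
      ∑ χ ∈ Finset.univ.filter (· ∈ Cfsg.principalBlock M G), F χ =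
        ∑ χ ∈ X, F χ + ∑ i, F (mu i) := by
    intro F
    rw [← Finset.sum_image (f := F) (fun i _ j _ hij => hmuinj hij), ← Finset.sum_union]
    · refine Finset.sum_congr ?_ fun _ _ => rfl
      ext χ
      simp [hblock]
    · rw [Finset.disjoint_left]
      intro χ hχ hi
      obtain ⟨i, -, rfl⟩ := Finset.mem_image.1 hi
      exact hnot i hχ
  have hnorm : ∑ χ ∈ X, z χ ^ 2 + (r : ℤ) * z (mu i₀) ^ 2 - 2 * z (mu i₀) * e = m := by
    set d : ℂ := (z (mu i₀) : ℂ) with hd'
    set A : ℂ := ∑ χ ∈ X, (z χ : ℂ) ^ 2 with hA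
    have h1 : ∀ y ∈ Finset.univ.erase (1 : ↥(P : Subgroup G)),
        A + ∑ i, (d * d + d * e * psi P (R.rep i) y + d * e * conj (psi P (R.rep i) y) +
          psi P (R.rep i) y * conj (psi P (R.rep i) y)) = (Nat.card P : ℂ) := by
      intro y hy
      have hy' := (Finset.mem_erase.1 hy).1
      rw [← h.block_norm hM hy', hsum]
      congr 1
      · exact Finset.sum_congr rfl fun χ hχ => by rw [hvalX χ hχ y hy', map_intCast, sq]
      · refine Finset.sum_congr rfl fun i _ => ?_
        rw [hvalmu i y hy', map_add, map_mul, map_intCast, map_intCast]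
        linear_combination (-(psi P (R.rep i) y * conj (psi P (R.rep i) y))) * he2
    have hs1 : ∀ i, ∑ y ∈ Finset.univ.erase (1 : ↥(P : Subgroup G)), psi P (R.rep i) y =
        -(m : ℂ) := by
      intro i
      rw [Finset.sum_erase_eq_sub (Finset.mem_univ _), sum_psi (R.ne_one i),
        h.psi_one (R.ne_one i), zero_sub]
    have hs2 : ∀ i, ∑ y ∈ Finset.univ.erase (1 : ↥(P : Subgroup G)),
        psi P (R.rep i) y * conj (psi P (R.rep i) y) = (m : ℂ) * Nat.card P - m * m := by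
      intro i
      rw [Finset.sum_erase_eq_sub (Finset.mem_univ _), horth, h.psi_one (R.ne_one i)]
      simp [hδ]
    have h2 := Finset.sum_congr rfl h1
    simp only [Finset.sum_add_distrib, Finset.sum_const, nsmul_eq_mul,
      Finset.card_erase_of_mem (Finset.mem_univ _), Finset.card_univ, Fintype.card_fin] at h2
    simp only [Finset.sum_comm (s := Finset.univ.erase (1 : ↥(P : Subgroup G)))] at h2
    simp only [← Finset.mul_sum, ← map_sum, hs1, hs2, map_neg, map_natCast, Finset.sum_const,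
      nsmul_eq_mul, Finset.card_univ, Fintype.card_fin] at h2
    have hn : ((Fintype.card ↥(P : Subgroup G) - 1 : ℕ) : ℂ) = (r : ℂ) * m := by
      rw [← Nat.card_eq_fintype_card, ← Nat.cast_mul]
      congr 1
      omega
    rw [hn, ← hr] at h2
    push_cast at h2
    have hrm : (r : ℂ) * m ≠ 0 :=
      mul_ne_zero (Nat.cast_ne_zero.2 (by omega)) (Nat.cast_ne_zero.2 h.pos.ne')
    have h3 : A + r * d ^ 2 - 2 * d * e = (m : ℂ) := mul_left_cancel₀ hrm (by linear_combination h2)
    apply Int.cast_injective (α := ℂ)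
    push_cast
    rw [← hA, ← hd']
    exact h3
  refine ⟨r, ⟨{
    R := R, mu := mu, X := X, a := z, d := z (mu i₀), e := e
    e_unit := he, two_le := hr2, card := hr, mu_inj := hmuinj, block := hblock, notMem := hnot
    one_mem := honeX
    a_ne := ?_
    a_one := haone
    val_X := hvalX
    val_mu := hvalmu
    norm := hnorm
    reg := hreg
    rel := ?_ }⟩⟩
  · intro χ hχ h0
    obtain ⟨-, hB, -⟩ := Finset.mem_filter.1 hχ
    have hvan : ∀ g : G, g ≠ 1 → (∃ j, orderOf g = p ^ j) → χ.1 g = 0 := by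
      intro g hg ⟨j, hj⟩
      obtain ⟨y, x, hx, hxy⟩ := exists_rep P g
      have hxg : Cfsg.IsPPart p g g :=
        ⟨1, mul_one _, Commute.one_right _, ⟨j, hj⟩, by simp [(Fact.out : p.Prime).ne_one]⟩
      rw [H40.isPPart_unique hx hxg] at hxy
      have hy : y ≠ 1 := fun ee => hg (by subst ee; simpa using hxy)
      rw [H26.irr_eq_of_isConj χ hxy, hvalX χ hχ y hy, h0, Int.cast_zero]
    have hsing := H40.blockOf_eq_singleton hM χ (H40.factorization_eq_of_vanish χ hvan).ge
    rw [← H41.eq_blockOf_of_mem H41.isPBlock_principalBlock hB] at hsing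
    rw [hsing] at hone_mem
    rw [← Set.mem_singleton_iff.1 hone_mem] at h0
    omega
  · intro i g hg
    have hp : p ∣ orderOf (y₀ : G) := dvd_orderOf_of_ne_one y₀.2 fun ee => hy₀ (Subtype.ext ee)
    have h1 := H40.sum_block_mul_conj_eq_zero hM (H41.isPBlock_principalBlock (G := G) (M := M)) hg hp
    rw [hsum] at h1
    have h2 : ∑ j, (mu j).1 g * conj ((mu j).1 (y₀ : G)) =
        ((r : ℂ) * (z (mu i₀) : ℂ) - e) * (mu i).1 g := by
      rw [Finset.sum_congr rfl fun j _ => by rw [hreg j i g hg, hvalmu j y₀ hy₀],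
        ← Finset.mul_sum, ← map_sum, Finset.sum_add_distrib, Finset.sum_const, Finset.card_univ,
        Fintype.card_fin, nsmul_eq_mul, ← Finset.mul_sum, h.sum_reps_psi R hy₀]
      simp only [map_add, map_mul, map_natCast, map_intCast, map_neg, map_one]
      ring
    rw [h2] at h1
    rw [← h1, add_comm]
    congr 1
    exact Finset.sum_congr rfl fun χ hχ => by rw [hvalX χ hχ y₀ hy₀, map_intCast, mul_comm]

end Cfsg.Agent.H28.Ab

namespace Cfsg.Agent.H28.Ab

variable {G : Type*} [Group G] [Finite G] {p : ℕ} [Fact p.Prime] {P : Sylow p G} {m r : ℕ}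
  {M : Ideal Cfsg.AlgInt}

/-- The orbit number is constant on orbits. -/
theorem Reps.idx_orb (R : Reps P r) {ψ ψ' : ↥(P : Subgroup G) →* ℂˣ} (hψ : ψ ≠ 1)
    (h : ψ' ∈ orb P ψ) : R.idx ψ' = R.idx ψ := by
  exact R.idx_eq _ _ (orb_eq_of_mem (R.mem_orb_idx ψ hψ) ▸ h)

/-- The value of an exceptional character at an element with nontrivial `p`-part. -/
theorem Exc.value_mu (E : Exc M P m r) (h : Ctx P m) (hM : Cfsg.IsPModular p M)
    {ψ : ↥(P : Subgroup G) →* ℂˣ} (hψ : ψ ≠ 1) {z : G} {y : ↥(P : Subgroup G)}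
    (hz : Cfsg.IsPPart p z (y : G)) (hy : (y : G) ≠ 1) :
    (E.mu (E.R.idx ψ)).1 z = (E.d : ℂ) + (E.e : ℂ) * psi P ψ y := by
  have hy' : y ≠ 1 := fun e => hy (by rw [e, OneMemClass.coe_one])
  rw [h.block_value hM (E.mu_mem_block _) hy' hz (IsConj.refl _), E.val_mu _ y hy', psi, psi,
    orb_eq_of_mem (E.R.mem_orb_idx ψ hψ)]

/-- The value of a non-exceptional character at an element with nontrivial `p`-part. -/
theorem Exc.value_X (E : Exc M P m r) (h : Ctx P m) (hM : Cfsg.IsPModular p M)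
    {χ : Cfsg.IrrCharacter G} (hχ : χ ∈ E.X) {z y : G}
    (hz : Cfsg.IsPPart p z y) (hyP : y ∈ (P : Subgroup G)) (hy : y ≠ 1) :
    χ.1 z = (E.a χ : ℂ) := by
  have hy' : (⟨y, hyP⟩ : ↥(P : Subgroup G)) ≠ 1 := fun e => hy (congrArg Subtype.val e)
  rw [h.block_value hM (E.mem_block_of_mem hχ) hy' (y := ⟨y, hyP⟩) hz (IsConj.refl _),
    E.val_X χ hχ ⟨y, hyP⟩ hy']

theorem Exc.r_eq (E : Exc M P m r) (h : Ctx P m) : (Nat.card P - 1) / m = r := by
  rw [← E.card, Nat.add_sub_cancel, Nat.mul_div_cancel _ h.pos]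

theorem Exc.card_range (E : Exc M P m r) : Nat.card (Set.range E.mu) = r := by
  rw [Nat.card_range_of_injective E.mu_inj, Nat.card_fin]

end Cfsg.Agent.H28.Ab
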