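import Mathlib
import Cfsg.Agent.H25.CharInd
import Cfsg.Agent.H25.LinearExtend
import Cfsg.Agent.H25.TwoDegrees
import Cfsg.Agent.H26.CharOrtho
import Cfsg.Agent.H26.CharLinear
import Cfsg.Agent.H43.Constituents
import Cfsg.Agent.H43.LinearTwist
import Cfsg.Agent.H43.DetChar
import Cfsg.Agent.H44.Inflation
import Cfsg.Agent.H44.NormalDegrees
import Cfsg.Agent.H44.RootUnityS4
import Cfsg.Agent.H42.DegreeBound
import Cfsg.Agent.H45.Gallagher
import Cfsg.Agent.H41.CentralInvolution
import Cfsg.Agent.H62.InvolutiveSimilarity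

/-!
# Abelian subgroups of bounded index

If all irreducible degrees of a finite group are at most `b`, some abelian subgroup has index at
most `(b!)²`.
-/

set_option autoImplicit false

namespace Cfsg.Agent.H28.AbInd

open scoped ComplexConjugate
open Cfsg

universe u

variable {G : Type u} [Group G] [Finite G]

/-- All irreducible degrees are at most `b`. -/
def DegLE (G : Type u) [Group G] (b : ℕ) : Prop :=
  ∀ χ : IrrCharacter G, charDegree (χ : G → ℂ) ≤ b

theorem classInner_conj {H : Type u} [Group H] [Fintype H] (f g : H → ℂ) :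
    classInner g f = conj (classInner f g) := by
  simp only [classInner, map_mul, map_inv₀, map_natCast, map_sum, Complex.conj_conj]
  congr 1
  exact Finset.sum_congr rfl fun x _ => mul_comm _ _

theorem sum_normSq (ψ : IrrCharacter G) [Fintype G] :
    ∑ g : G, Complex.normSq (ψ.1 g) = (Nat.card G : ℝ) := by
  classical
  have h := H26.classInner_irr ψ ψ
  rw [if_pos rfl, classInner, inv_mul_eq_one₀ (Nat.cast_ne_zero.2 Nat.card_pos.ne')] at h
  have h2 : (Nat.card G : ℂ) = ((∑ g : G, Complex.normSq (ψ.1 g) : ℝ) : ℂ) := by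
    rw [h, Complex.ofReal_sum]
    exact Finset.sum_congr rfl fun g _ => Complex.mul_conj _
  exact_mod_cast h2.symm

theorem degree_eq_sum {H : Subgroup G} [Fintype H] (χ : IrrCharacter G) :
    charDegree (χ : G → ℂ) = ∑ θ : IrrCharacter H,
      H43.mult (fun n : H => χ.1 n) θ * charDegree (θ : H → ℂ) := by
  have h := H43.apply_one_eq_sum_mult
    (H26.isCharacter_comp (H26.irr_isCharacter χ) H.subtype)
  simp only [Function.comp_apply, map_one] at h
  rw [← H44.cast_charDegree] at h
  exact_mod_cast h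

/-- A constituent of the restriction of no smaller degree is the whole restriction. -/
theorem restr_eq {H : Subgroup G} [Fintype H] (χ : IrrCharacter G) (ψ : IrrCharacter H)
    (h : H43.mult (fun n : H => χ.1 n) ψ ≠ 0)
    (hd : charDegree (χ : G → ℂ) ≤ charDegree (ψ : H → ℂ)) (x : H) : χ.1 x = ψ.1 x := by
  classical
  have hs := degree_eq_sum (H := H) χ
  rw [← Finset.add_sum_erase Finset.univ _ (Finset.mem_univ ψ)] at hs
  have hψ0 := H44.charDegree_pos ψ
  set m := H43.mult (fun n : H => χ.1 n) ψ with hm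
  have h1 : charDegree (ψ : H → ℂ) ≤ m * charDegree (ψ : H → ℂ) :=
    Nat.le_mul_of_pos_left _ (Nat.pos_of_ne_zero h)
  have hm1 : m = 1 := by
    by_contra hne
    have : 2 * charDegree (ψ : H → ℂ) ≤ m * charDegree (ψ : H → ℂ) :=
      Nat.mul_le_mul_right _ (by omega)
    omega
  have h0 : ∀ θ ∈ Finset.univ.erase ψ, H43.mult (fun n : H => χ.1 n) θ = 0 := by
    intro θ hθ
    have := Finset.single_le_sum
      (f := fun θ : IrrCharacter H => H43.mult (fun n : H => χ.1 n) θ * charDegree (θ : H → ℂ))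
      (fun _ _ => Nat.zero_le _) hθ
    have h3 : H43.mult (fun n : H => χ.1 n) θ * charDegree (θ : H → ℂ) = 0 := by omega
    exact (mul_eq_zero.1 h3).resolve_right (H44.charDegree_pos θ).ne'
  have he := congrFun (H43.eq_sum_mult
    (H26.isCharacter_comp (H26.irr_isCharacter χ) H.subtype)) x
  rw [Finset.sum_apply, Finset.sum_eq_single ψ (fun θ _ hθ => by
    rw [Pi.smul_apply]
    show (H43.mult (fun n : H => χ.1 n) θ : ℂ) • _ = 0
    rw [h0 θ (Finset.mem_erase.2 ⟨hθ, Finset.mem_univ θ⟩), Nat.cast_zero, zero_smul])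
    (fun hc => absurd (Finset.mem_univ ψ) hc)] at he
  change χ.1 x = (m : ℂ) • ψ.1 x at he
  rwa [hm1, Nat.cast_one, one_smul] at he

theorem DegLE.subgroup {b : ℕ} (hb : DegLE G b) (H : Subgroup G) : DegLE H b := by
  classical
  have := Fintype.ofFinite G
  have := Fintype.ofFinite H
  intro ψ
  obtain ⟨χ, hχ⟩ := H43.exists_above H ψ
  refine le_trans ?_ (hb χ)
  rw [degree_eq_sum (H := H) χ]
  exact (Nat.le_mul_of_pos_left _ (Nat.pos_of_ne_zero hχ)).trans
    (Finset.single_le_sum
      (f := fun θ : IrrCharacter H => H43.mult (fun n : H => χ.1 n) θ * charDegree (θ : H → ℂ))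
      (fun _ _ => Nat.zero_le _) (Finset.mem_univ ψ))

theorem DegLE.quotient {b : ℕ} (hb : DegLE G b) (N : Subgroup G) [N.Normal] : DegLE (G ⧸ N) b := by
  intro η
  refine le_trans (le_of_eq ?_) (hb (H44.inflate N η))
  apply Nat.cast_injective (R := ℂ)
  rw [H44.cast_charDegree, H44.cast_charDegree, H44.inflate_apply, QuotientGroup.mk_one]

/-- A character of maximal degree of a subgroup extends. -/
theorem exists_extension {b : ℕ} (hb : DegLE G b) (H : Subgroup G) (ψ : IrrCharacter H)
    (hψ : charDegree (ψ : H → ℂ) = b) :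
    ∃ χ : IrrCharacter G, ∀ x : H, χ.1 x = ψ.1 x := by
  classical
  have := Fintype.ofFinite G
  have := Fintype.ofFinite H
  obtain ⟨χ, hχ⟩ := H43.exists_above H ψ
  exact ⟨χ, restr_eq χ ψ hχ (hψ ▸ hb χ)⟩

/-- A character of maximal degree of a subgroup vanishes at elements with a conjugate outside. -/
theorem conj_mem_of_ne_zero {b : ℕ} (hb : DegLE G b) (H : Subgroup G) (ψ : IrrCharacter H)
    (hψ : charDegree (ψ : H → ℂ) = b) (h : H) (hne : ψ.1 h ≠ 0) (g : G) :
    g * h * g⁻¹ ∈ H := by
  classical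
  have := Fintype.ofFinite G
  have := Fintype.ofFinite H
  obtain ⟨m, hm, hsum⟩ :=
    H26.exists_nat_coeffs (H25.isCharacter_indFun H (H26.irr_isCharacter ψ))
  have hres : ∀ χ : IrrCharacter G, m χ ≠ 0 → ∀ x : H, χ.1 x = ψ.1 x := by
    intro χ hχ
    refine restr_eq χ ψ (fun h0 => hχ ?_) (hψ ▸ hb χ)
    have h1 := H25.classInner_indFun_left H ψ.1 χ.1 (H26.irr_isClassFunction χ)
    rw [hm χ, classInner_conj (fun x : H => χ.1 x) ψ.1, H43.classInner_eq_mult
      (show IsCharacter H (fun x : H => χ.1 x) from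
        H26.isCharacter_comp (H26.irr_isCharacter χ) H.subtype) ψ, h0, Nat.cast_zero, map_zero] at h1
    exact_mod_cast h1
  have hval : ∀ x : H, indFun H ψ.1 (x : G) = ((∑ χ, m χ : ℕ) : ℂ) * ψ.1 x := by
    intro x
    rw [hsum, Finset.sum_apply, Nat.cast_sum, Finset.sum_mul]
    refine Finset.sum_congr rfl fun χ _ => ?_
    by_cases h0 : m χ = 0
    · simp [h0]
    · rw [Pi.smul_apply, smul_eq_mul, hres χ h0 x]
  have hidx : ((∑ χ, m χ : ℕ) : ℂ) = (H.index : ℂ) := by
    have h1 := hval 1
    rw [Subgroup.coe_one, H25.indFun_one] at h1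
    exact mul_right_cancel₀ (H26.irr_one_ne_zero ψ) h1.symm
  obtain ⟨χ₀, hχ₀⟩ : ∃ χ, m χ ≠ 0 := by
    by_contra hc
    push Not at hc
    simp only [hc, Finset.sum_const_zero, Nat.cast_zero] at hidx
    exact Subgroup.index_ne_zero_of_finite (H := H) (Nat.cast_eq_zero.1 hidx.symm)
  set S := Finset.univ.filter (fun x : G => x⁻¹ * h * x ∈ H) with hS
  have hcnt : ∑ x : G, extendByZero H ψ.1 (x⁻¹ * h * x) = (S.card : ℂ) * ψ.1 h := by
    rw [← Finset.sum_filter_add_sum_filter_not Finset.univ (fun x : G => x⁻¹ * h * x ∈ H),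
      Finset.sum_eq_zero (s := Finset.univ.filter _) (fun x hx =>
        H25.extendByZero_of_notMem H ψ.1 (Finset.mem_filter.1 hx).2), add_zero,
      Finset.sum_congr rfl (fun x hx => show extendByZero H ψ.1 (x⁻¹ * h * x) = ψ.1 h from ?_),
      Finset.sum_const, nsmul_eq_mul]
    rw [H25.extendByZero_of_mem H ψ.1 (Finset.mem_filter.1 hx).2, ← hres χ₀ hχ₀, ← hres χ₀ hχ₀]
    simpa using H26.irr_conj χ₀ (h : G) x⁻¹
  have h2 := hval h
  rw [H25.indFun_apply, hcnt, hidx, ← mul_assoc] at h2
  have h3 := mul_right_cancel₀ hne h2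
  rw [inv_mul_eq_iff_eq_mul₀ (Nat.cast_ne_zero.2 Nat.card_pos.ne'), ← Nat.cast_mul,
    H.card_mul_index, Nat.cast_inj, Nat.card_eq_fintype_card] at h3
  have h4 : g⁻¹ ∈ S := by
    rw [Finset.eq_univ_of_card S h3]
    exact Finset.mem_univ _
  have := (Finset.mem_filter.1 h4).2
  simpa using this

/-- A character vanishing outside `C` forces a small index of `C`. -/
theorem relIndex_le_sq (H : Subgroup G) (ψ : IrrCharacter H) (C : Subgroup G) (hC : C ≤ H)
    (hsup : ∀ h : H, ψ.1 h ≠ 0 → (h : G) ∈ C) :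
    C.relIndex H ≤ charDegree (ψ : H → ℂ) ^ 2 := by
  classical
  have := Fintype.ofFinite H
  set d := charDegree (ψ : H → ℂ)
  set S := Finset.univ.filter (fun h : H => (h : G) ∈ C) with hS
  have hS' : S.card = Nat.card C := by
    rw [← Nat.card_congr (Subgroup.subgroupOfEquivOfLe hC).toEquiv, Nat.card_eq_fintype_card,
      Fintype.card_subtype]
    exact congrArg Finset.card (Finset.filter_congr fun h _ => (Subgroup.mem_subgroupOf).symm)
  have h1 : (Nat.card H : ℝ) ≤ (Nat.card C : ℝ) * (d : ℝ) ^ 2 := by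
    rw [← sum_normSq ψ, ← Finset.sum_subset (Finset.subset_univ S) (fun h _ hh => by
      rw [Complex.normSq_eq_zero]
      by_contra hne
      exact hh (Finset.mem_filter.2 ⟨Finset.mem_univ h, hsup h hne⟩))]
    refine (Finset.sum_le_card_nsmul S _ ((d : ℝ) ^ 2) fun h _ => ?_).trans_eq ?_
    · rw [Complex.normSq_eq_norm_sq]
      exact pow_le_pow_left₀ (norm_nonneg _) (H44.norm_irr_le ψ h) 2
    · rw [nsmul_eq_mul, hS']
  have h2 : Nat.card H ≤ Nat.card C * d ^ 2 := by exact_mod_cast h1
  rw [← Subgroup.card_mul_index (C.subgroupOf H),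
    Nat.card_congr (Subgroup.subgroupOfEquivOfLe hC).toEquiv] at h2
  exact Nat.le_of_mul_le_mul_left h2 Nat.card_pos

/-- A character of maximal degree of a normal subgroup, abelian modulo `N` and with no element
central modulo `N` outside `N`, vanishes outside `N`. -/
theorem mem_of_ne_zero_normal {b : ℕ} (hb : DegLE G b) (N H : Subgroup G) [N.Normal] [H.Normal]
    (hab : ∀ x ∈ H, ∀ y ∈ H, x * y * x⁻¹ * y⁻¹ ∈ N)
    (hz : ∀ h ∈ H, (∀ g : G, g * h * g⁻¹ * h⁻¹ ∈ N) → h ∈ N)
    (ψ : IrrCharacter H) (hψ : charDegree (ψ : H → ℂ) = b) (h : H) (hne : ψ.1 h ≠ 0) :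
    (h : G) ∈ N := by
  classical
  have := Fintype.ofFinite G
  have := Fintype.ofFinite H
  refine hz _ h.2 fun g => ?_
  by_contra hc
  set h' : H := ⟨g * h * g⁻¹, (inferInstance : H.Normal).conj_mem _ h.2 g⟩ with hh'
  set N0 := N.subgroupOf H
  have : N0.Normal := inferInstance
  have hcomm : commutator (H ⧸ N0) = ⊥ := by
    rw [commutator_eq_bot_iff_center_eq_top, eq_top_iff]
    intro x _
    rw [Subgroup.mem_center_iff]
    intro y
    obtain ⟨x, rfl⟩ := QuotientGroup.mk_surjective x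
    obtain ⟨y, rfl⟩ := QuotientGroup.mk_surjective y
    rw [← QuotientGroup.mk_mul, ← QuotientGroup.mk_mul, QuotientGroup.eq, Subgroup.mem_subgroupOf]
    have := hab _ (inv_mem x.2) _ (inv_mem y.2)
    simpa [mul_assoc] using this
  have hq : ((h' * h⁻¹ : H) : H ⧸ N0) ∉ commutator (H ⧸ N0) := by
    rw [hcomm, Subgroup.mem_bot, QuotientGroup.eq_one_iff, Subgroup.mem_subgroupOf]
    exact hc
  obtain ⟨lam, hlam⟩ := H25.exists_linear_sep hq
  set f : H →* ℂˣ := lam.comp (QuotientGroup.mk' N0) with hf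
  obtain ⟨χ, hχ⟩ := exists_extension hb H ψ hψ
  obtain ⟨χ', hχ'⟩ := exists_extension hb H (H43.irrTwist ψ f)
    (by rw [H43.charDegree_irrTwist]; exact hψ)
  have e1 : ψ.1 h' = ψ.1 h := by
    rw [← hχ h', ← hχ h]; exact H26.irr_conj χ h g
  have e2 : (H43.irrTwist ψ f).1 h' = (H43.irrTwist ψ f).1 h := by
    rw [← hχ' h', ← hχ' h]; exact H26.irr_conj χ' h g
  rw [H43.irrTwist_apply, H43.irrTwist_apply, e1] at e2
  have e3 : f h' = f h := Units.ext (mul_left_cancel₀ hne e2)
  apply hlam
  show f (h' * h⁻¹) = 1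
  rw [map_mul, map_inv, e3, mul_inv_cancel]

/-- Below a non-abelian quotient the degrees drop by a factor of two. -/
theorem degLE_half {b : ℕ} (hb : DegLE G b) (N : Subgroup G) [N.Normal]
    (η : IrrCharacter (G ⧸ N)) (hη : 2 ≤ charDegree (η : G ⧸ N → ℂ)) : DegLE N (b / 2) := by
  classical
  have := Fintype.ofFinite G
  have := Fintype.ofFinite N
  intro θ
  rw [Nat.le_div_iff_mul_le (by norm_num)]
  obtain ⟨χ, hχ⟩ := H43.exists_above N θ
  by_cases h2 : charDegree (θ : N → ℂ) * 2 ≤ charDegree (χ : G → ℂ)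
  · exact h2.trans (hb χ)
  have hall : ∀ φ : IrrCharacter N, H43.mult (fun n : N => χ.1 n) φ ≠ 0 →
      charDegree (φ : N → ℂ) = charDegree (θ : N → ℂ) := fun φ hφ => by
    obtain ⟨x, rfl⟩ := H43.exists_irrConj_of_restrMult_ne_zero N χ
      (θ := θ) (θ' := φ) hχ hφ
    rw [H43.irrConj, H43.charDegree_irrCongr]
  have hle : charDegree (χ : G → ℂ) ≤ charDegree (θ : N → ℂ) := by
    have hsum : charDegree (χ : G → ℂ) =
        (∑ φ : IrrCharacter N, H43.mult (fun n : N => χ.1 n) φ) * charDegree (θ : N → ℂ) := by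
      rw [degree_eq_sum (H := N) χ, Finset.sum_mul]
      refine Finset.sum_congr rfl fun φ _ => ?_
      by_cases h0 : H43.mult (fun n : N => χ.1 n) φ = 0
      · simp [h0]
      · rw [hall φ h0]
    set s := ∑ φ : IrrCharacter N, H43.mult (fun n : N => χ.1 n) φ
    rcases Nat.lt_or_ge s 2 with hs | hs
    · rw [hsum]
      calc s * charDegree (θ : N → ℂ) ≤ 1 * charDegree (θ : N → ℂ) :=
            Nat.mul_le_mul_right _ (by omega)
        _ = _ := one_mul _
    · exfalso
      apply h2
      rw [hsum, mul_comm]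
      exact Nat.mul_le_mul_right _ hs
  have hres := restr_eq χ θ hχ hle
  have hirr : IsIrrCharacter N fun n : N => χ.1 n := by
    rw [show (fun n : N => χ.1 n) = θ.1 from funext hres]
    exact θ.2
  let E : IrrCharacter G := ⟨_, H45.isIrrCharacter_extMul N χ hirr η⟩
  have hE : charDegree (E : G → ℂ) = charDegree (θ : N → ℂ) * charDegree (η : G ⧸ N → ℂ) := by
    apply Nat.cast_injective (R := ℂ)
    rw [H44.cast_charDegree, Nat.cast_mul, H44.cast_charDegree, H44.cast_charDegree, ← hres 1,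
      Subgroup.coe_one]
    rfl
  exact (Nat.mul_le_mul_left _ hη).trans (hE ▸ hb E)

theorem exists_nonlinear {X : Type u} [Group X] [Finite X] (h : commutator X ≠ ⊥) :
    ∃ η : IrrCharacter X, 2 ≤ charDegree (η : X → ℂ) := by
  by_contra hc
  push Not at hc
  apply h
  have hab : ∀ a b : X, a * b = b * a := H26.comm_iff_forall_irr_one.mpr fun η => by
    have h1 := H44.charDegree_pos η
    rw [← H44.cast_charDegree, show charDegree (η : X → ℂ) = 1 by have := hc η; omega,
      Nat.cast_one]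
  rw [commutator_eq_bot_iff_center_eq_top, eq_top_iff]
  exact fun x _ => Subgroup.mem_center_iff.2 fun y => hab y x

/-! ### The three cases -/

section Cases

variable {b : ℕ} (N : Subgroup G) [N.Normal]
  (hmin : ∀ M : Subgroup (G ⧸ N), M.Normal → M ≠ ⊥ → commutator (G ⧸ N) ≤ M)
  (hna : commutator (G ⧸ N) ≠ ⊥)

include hmin hna

theorem center_case (hb : DegLE G b) (hZ : Subgroup.center (G ⧸ N) ≠ ⊥) :
    ∃ H : Subgroup G, H.index ≤ b ^ 2 ∧ DegLE H (b - 1) := by
  classical
  have := Fintype.ofFinite G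
  have := Fintype.ofFinite (G ⧸ N)
  set Z := Subgroup.center (G ⧸ N) with hZdef
  have hKZ : commutator (G ⧸ N) ≤ Z := hmin Z inferInstance hZ
  obtain ⟨⟨c, hc⟩, hcne⟩ := (Subgroup.ne_bot_iff_exists_ne_one).1 hna
  have hc1 : c ≠ 1 := fun e => hcne (Subtype.ext e)
  obtain ⟨φ, hφc⟩ : ∃ φ : IrrCharacter (G ⧸ N), c ∉ H44.kerOf φ := by
    by_contra hall
    push Not at hall
    exact hc1 (Subgroup.mem_bot.1 (H44.mem_of_forall_kerOf ⊥ fun φ _ => hall φ))
  have hfaith : ∀ x, φ.1 x = φ.1 1 → x = 1 := fun x hx => by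
    by_contra hx1
    have := H44.kerOf_normal φ
    refine hφc (hmin (H44.kerOf φ) this (fun hb' => hx1 ?_) hc)
    exact Subgroup.mem_bot.1 (hb' ▸ (H44.mem_kerOf.2 hx : x ∈ H44.kerOf φ))
  set d := charDegree (φ : G ⧸ N → ℂ) with hd
  have hd2 : 2 ≤ d := by
    by_contra hlt
    have h1 : φ.1 1 = 1 := by
      have := H44.charDegree_pos φ
      rw [← H44.cast_charDegree, show charDegree (φ : G ⧸ N → ℂ) = 1 by omega, Nat.cast_one]
    obtain ⟨f, hf⟩ := H26.exists_hom_of_isCharacter_one (H26.irr_isCharacter φ) h1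
    refine hφc (H44.mem_kerOf.2 ?_)
    rw [← hf, ← hf, show f c = 1 from Abelianization.commutator_subset_ker f hc, map_one]
  have hzero : ∀ x, x ∉ Z → φ.1 x = 0 := by
    intro x hx
    rw [hZdef, Subgroup.mem_center_iff] at hx
    push Not at hx
    obtain ⟨y, hy⟩ := hx
    set z := y * x * y⁻¹ * x⁻¹ with hzdef
    have hzK : z ∈ commutator (G ⧸ N) := by
      rw [commutator_def, hzdef, ← commutatorElement_def]
      exact Subgroup.commutator_mem_commutator (Subgroup.mem_top _) (Subgroup.mem_top _)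
    have hz1 : z ≠ 1 := fun e => hy (by
      rw [hzdef, mul_inv_eq_one, mul_inv_eq_iff_eq_mul] at e
      exact e)
    by_contra hne
    apply hz1
    apply hfaith
    have h1 := H42.irr_central_mul φ (hKZ hzK) x
    rw [show z * x = y * x * y⁻¹ by rw [hzdef, inv_mul_cancel_right], H26.irr_conj] at h1
    have h0 := H26.irr_one_ne_zero φ
    field_simp at h1
    exact h1.symm
  have hcen : ∀ x ∈ Z, Complex.normSq (φ.1 x) = (d : ℝ) ^ 2 := fun x hx => by
    rw [Complex.normSq_eq_norm_sq, H44.RootUnity.norm_of_mem_center hx]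
  have hidx : Z.index = d ^ 2 := by
    have h1 : (Nat.card (G ⧸ N) : ℝ) = (Nat.card Z : ℝ) * (d : ℝ) ^ 2 := by
      rw [← sum_normSq φ, ← Finset.sum_subset (Finset.subset_univ (Finset.univ.filter (· ∈ Z)))
        (fun x _ hx => by
          rw [hzero x (fun h => hx (Finset.mem_filter.2 ⟨Finset.mem_univ x, h⟩)), map_zero]),
        Finset.sum_congr rfl (fun x hx => hcen x (Finset.mem_filter.1 hx).2), Finset.sum_const,
        nsmul_eq_mul, Nat.card_eq_fintype_card, Fintype.card_subtype]
    have h2 : Nat.card (G ⧸ N) = Nat.card Z * d ^ 2 := by exact_mod_cast h1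
    rw [← Z.card_mul_index] at h2
    exact Nat.eq_of_mul_eq_mul_left Nat.card_pos h2
  set H := Z.comap (QuotientGroup.mk' N) with hH
  have hHidx : H.index = d ^ 2 := by
    rw [hH, Subgroup.index_comap_of_surjective _ (QuotientGroup.mk'_surjective N), hidx]
  refine ⟨H, hHidx ▸ Nat.pow_le_pow_left ((hb.quotient N) φ) 2, fun ψ => ?_⟩
  by_contra hlt
  have hψ : charDegree (ψ : H → ℂ) = b := by
    have := (hb.subgroup H) ψ
    omega
  have := Fintype.ofFinite H
  obtain ⟨χ, hχ⟩ := exists_extension hb H ψ hψ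
  set F : G → ℂ := fun g => χ.1 g * φ.1 (QuotientGroup.mk' N g) with hF
  have hFc : IsCharacter G F := H26.isCharacter_mul (H26.irr_isCharacter χ)
    (H26.isCharacter_comp (H26.irr_isCharacter φ) (QuotientGroup.mk' N))
  have hsumF : ∑ g : G, Complex.normSq (F g) = (Nat.card G : ℝ) := by
    rw [← Finset.sum_subset (Finset.subset_univ (Finset.univ.filter (· ∈ H))) (fun g _ hg => by
        rw [hF]
        simp only
        rw [hzero _ (fun h => hg (Finset.mem_filter.2 ⟨Finset.mem_univ g, h⟩)), mul_zero, map_zero]),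
      Finset.sum_congr rfl (fun g hg => show Complex.normSq (F g) =
        Complex.normSq (χ.1 g) * (d : ℝ) ^ 2 by
          rw [hF]
          simp only
          rw [map_mul, hcen _ (Finset.mem_filter.1 hg).2]),
      ← Finset.sum_mul, Finset.sum_subtype (p := (· ∈ H)) _ (by simp) (fun g => Complex.normSq (χ.1 g))]
    rw [show ∑ g : H, Complex.normSq (χ.1 g) = ∑ g : H, Complex.normSq (ψ.1 g) from
      Finset.sum_congr rfl fun g _ => by rw [hχ g], sum_normSq ψ, ← H.card_mul_index, hHidx]
    push_cast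
    ring
  have hnorm : classInner F F = 1 := by
    have h1 : ∑ g : G, F g * conj (F g) = (Nat.card G : ℂ) := by
      simp only [Complex.mul_conj, ← Complex.ofReal_sum, hsumF, Complex.ofReal_natCast]
    rw [classInner, h1, inv_mul_cancel₀ (Nat.cast_ne_zero.2 Nat.card_pos.ne')]
  let Fi : IrrCharacter G := ⟨F, H26.isIrrCharacter_of_norm_one hFc hnorm⟩
  have hFd : charDegree (Fi : G → ℂ) = b * d := by
    apply Nat.cast_injective (R := ℂ)
    rw [H44.cast_charDegree, Nat.cast_mul, ← hψ, hd, H44.cast_charDegree, H44.cast_charDegree,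
      ← hχ 1, Subgroup.coe_one]
    show χ.1 1 * φ.1 (QuotientGroup.mk' N 1) = _
    rw [map_one]
  have := hb Fi
  have hbpos : 0 < b := hψ ▸ H44.charDegree_pos ψ
  nlinarith [hFd]

omit hna in
theorem centralizer_inf_eq_bot [hK : IsMulCommutative (commutator (G ⧸ N))] {l : G ⧸ N}
    (hl : l ∉ Subgroup.centralizer (commutator (G ⧸ N) : Set (G ⧸ N))) :
    commutator (G ⧸ N) ⊓ Subgroup.centralizer ({l} : Set (G ⧸ N)) = ⊥ := by
  set K := commutator (G ⧸ N) with hKdef
  have hn : (K ⊓ Subgroup.centralizer ({l} : Set (G ⧸ N))).Normal := by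
    refine ⟨fun k hk x => ?_⟩
    refine ⟨(inferInstance : K.Normal).conj_mem k hk.1 x, ?_⟩
    have hkl : l * k = k * l := Subgroup.mem_centralizer_singleton_iff.1 hk.2 |> Eq.symm
    set c := x⁻¹ * l * x * l⁻¹ with hc
    have hcK : c ∈ K := by
      rw [hKdef, commutator_def, hc]
      have := Subgroup.commutator_mem_commutator (H₁ := (⊤ : Subgroup (G ⧸ N))) (H₂ := ⊤)
        (Subgroup.mem_top x⁻¹) (Subgroup.mem_top l)
      rwa [commutatorElement_def, inv_inv] at this
    have hck : c * k = k * c := congrArg Subtype.val (hK.is_comm.comm ⟨c, hcK⟩ ⟨k, hk.1⟩)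
    show x * k * x⁻¹ ∈ Subgroup.centralizer ({l} : Set (G ⧸ N))
    rw [Subgroup.mem_centralizer_singleton_iff]
    have hcomm : x⁻¹ * l * x * k = k * (x⁻¹ * l * x) := by
      have e : x⁻¹ * l * x = c * l := by rw [hc, inv_mul_cancel_right]
      rw [e, mul_assoc, hkl, ← mul_assoc, hck, mul_assoc]
    calc x * k * x⁻¹ * l = x * (k * (x⁻¹ * l * x)) * x⁻¹ := by group
      _ = x * (x⁻¹ * l * x * k) * x⁻¹ := by rw [hcomm]
      _ = l * (x * k * x⁻¹) := by group
  by_contra hne
  apply hl
  rw [Subgroup.mem_centralizer_iff]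
  intro k hk
  exact Subgroup.mem_centralizer_singleton_iff.1 ((hmin _ hn hne) hk).2

theorem abelian_case (hb : DegLE G b) (hZ : Subgroup.center (G ⧸ N) = ⊥)
    (hab : IsMulCommutative (commutator (G ⧸ N))) :
    (∃ H : Subgroup G, H.index ≤ b ^ 2 ∧ DegLE H (b - 1)) ∨
      (∃ H : Subgroup G, H.index * (Nat.factorial (b / 2)) ^ 2 ≤ Nat.factorial b ^ 2 ∧
        DegLE H (b / 2)) := by
  classical
  have := Fintype.ofFinite G
  have := Fintype.ofFinite (G ⧸ N)
  set K := commutator (G ⧸ N) with hKdef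
  have := Fintype.ofFinite K
  have hcomK : ∀ a ∈ K, ∀ c ∈ K, a * c = c * a := fun a ha c hc =>
    congrArg Subtype.val (hab.is_comm.comm ⟨a, ha⟩ ⟨c, hc⟩)
  obtain ⟨g, hg⟩ : ∃ g, g ∉ Subgroup.centralizer (K : Set (G ⧸ N)) := by
    by_contra hall
    push Not at hall
    refine hna (eq_bot_iff.2 fun k hk => hZ ▸ Subgroup.mem_center_iff.2 fun x => ?_)
    exact (Subgroup.mem_centralizer_iff.1 (hall x) k hk).symm
  have hmemK : ∀ x y : G ⧸ N, x * y * x⁻¹ * y⁻¹ ∈ K := fun x y => by
    rw [hKdef, commutator_def, ← commutatorElement_def]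
    exact Subgroup.commutator_mem_commutator (Subgroup.mem_top _) (Subgroup.mem_top _)
  -- commutation with an element acting fixed point freely
  have hbij : ∀ l, l ∉ Subgroup.centralizer (K : Set (G ⧸ N)) →
      Function.Surjective (fun k : K => (⟨l * k * l⁻¹ * (k : G ⧸ N)⁻¹, hmemK l k⟩ : K)) := by
    intro l hl
    refine Finite.surjective_of_injective fun a c hac => ?_
    have h := congrArg Subtype.val hac
    simp only at h
    have h1 : (c : G ⧸ N)⁻¹ * a ∈ K ⊓ Subgroup.centralizer ({l} : Set (G ⧸ N)) := by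
      refine Subgroup.mem_inf.2 ⟨mul_mem (inv_mem c.2) a.2, Subgroup.mem_centralizer_singleton_iff.2 ?_⟩
      have h2 : l * (c : G ⧸ N)⁻¹ * l⁻¹ * (l * a * l⁻¹) = (c : G ⧸ N)⁻¹ * a := by
        have e1 : l * (a : G ⧸ N) * l⁻¹ = l * c * l⁻¹ * (c : G ⧸ N)⁻¹ * a := by
          rw [← h, inv_mul_cancel_right]
        rw [e1]; group
      have h3 : l * ((c : G ⧸ N)⁻¹ * (a : G ⧸ N)) * l⁻¹ = (c : G ⧸ N)⁻¹ * a :=
        Eq.trans (by group) h2
      exact (mul_inv_eq_iff_eq_mul.1 h3).symm
    rw [centralizer_inf_eq_bot N hmin hl, Subgroup.mem_bot, inv_mul_eq_one] at h1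
    exact Subtype.ext h1.symm
  have hdec : ∀ x, ∃ k ∈ K, k * x ∈ Subgroup.centralizer ({g} : Set (G ⧸ N)) := by
    intro x
    obtain ⟨k, hk⟩ := hbij g hg ⟨x * g * x⁻¹ * g⁻¹, hmemK x g⟩
    have hk' : g * k * g⁻¹ * (k : G ⧸ N)⁻¹ = x * g * x⁻¹ * g⁻¹ := congrArg Subtype.val hk
    refine ⟨k, k.2, Subgroup.mem_centralizer_singleton_iff.2 ?_⟩
    have h1 : (k : G ⧸ N) * (x * g * x⁻¹ * g⁻¹) = g * k * g⁻¹ := by
      rw [hcomK _ k.2 _ (hmemK x g), ← hk', inv_mul_cancel_right]
    calc (k : G ⧸ N) * x * g = k * (x * g * x⁻¹ * g⁻¹) * g * x := by group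
      _ = g * k * g⁻¹ * g * x := by rw [h1]
      _ = g * (k * x) := by group
  have hLK : ∀ x ∈ K, x ∈ Subgroup.centralizer ({g} : Set (G ⧸ N)) → x = 1 := fun x h1 h2 =>
    Subgroup.mem_bot.1 (centralizer_inf_eq_bot N hmin hg ▸ (⟨h1, h2⟩ :
      x ∈ K ⊓ Subgroup.centralizer ({g} : Set (G ⧸ N))))
  -- a linear character of `K` with inertia group `K`
  obtain ⟨k₀, hk₀⟩ := (Subgroup.ne_bot_iff_exists_ne_one).1 hna
  obtain ⟨lam, hlam⟩ := H25.exists_linear_sep (x := k₀) (by
    rw [show commutator K = ⊥ by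
      rw [commutator_eq_bot_iff_center_eq_top, eq_top_iff]
      exact fun x _ => Subgroup.mem_center_iff.2 fun y => hab.is_comm.comm y x]
    exact hk₀)
  let θ : IrrCharacter K := ⟨_, H26.isIrrCharacter_hom lam⟩
  have hKT : K ≤ H44.inertia K θ.1 := H44.le_inertia K (H26.irr_isClassFunction θ)
  have hTK : H44.inertia K θ.1 ≤ K := by
    intro x hx
    obtain ⟨k, hk, hl⟩ := hdec x
    set l := k * x with hldef
    have hlT : l ∈ H44.inertia K θ.1 := mul_mem (hKT hk) hx
    by_contra hxK
    have hl1 : l ≠ 1 := fun e => hxK (by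
      rw [show x = k⁻¹ from eq_inv_of_mul_eq_one_right e]; exact inv_mem hk)
    have hlC : l ∉ Subgroup.centralizer (K : Set (G ⧸ N)) := by
      intro hC
      refine hl1 (Subgroup.mem_bot.1 (hZ ▸ Subgroup.mem_center_iff.2 fun y => ?_))
      obtain ⟨j, hj, hm⟩ := hdec y
      have hml : j * y * l = l * (j * y) := by
        have hc : (j * y) * l * (j * y)⁻¹ * l⁻¹ = 1 := hLK _ (hmemK _ _)
          (mul_mem (mul_mem (mul_mem hm hl) (inv_mem hm)) (inv_mem hl))
        rwa [mul_inv_eq_one, mul_inv_eq_iff_eq_mul] at hc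
      have hjl : j * l = l * j := Subgroup.mem_centralizer_iff.1 hC j hj
      calc y * l = j⁻¹ * (j * y * l) := by group
        _ = j⁻¹ * (l * j) * y := by rw [hml]; group
        _ = j⁻¹ * (j * l) * y := by rw [hjl]
        _ = l * y := by group
    apply hlam
    obtain ⟨k1, hk1⟩ := hbij l hlC k₀
    have h1 : lam ⟨l * k1 * l⁻¹, (inferInstance : K.Normal).conj_mem _ k1.2 l⟩ = lam k1 :=
      Units.ext (congrFun (H44.mem_inertia K |>.1 hlT) k1)
    rw [← hk1]
    show lam ⟨l * k1 * l⁻¹ * (k1 : G ⧸ N)⁻¹, hmemK l k1⟩ = 1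
    rw [show (⟨l * k1 * l⁻¹ * (k1 : G ⧸ N)⁻¹, hmemK l k1⟩ : K) =
      ⟨l * k1 * l⁻¹, (inferInstance : K.Normal).conj_mem _ k1.2 l⟩ * k1⁻¹ from Subtype.ext rfl,
      map_mul, map_inv, h1, mul_inv_cancel]
  have hf : K.index ≤ b := by
    obtain ⟨χ, hχ⟩ := H44.exists_irr_over K θ
    have h := H44.degree_mul_index_inertia_dvd K χ θ hχ
    rw [le_antisymm hTK hKT] at h
    exact (Nat.le_of_dvd (H44.charDegree_pos χ) ((dvd_mul_right _ _).trans h)).trans
      ((hb.quotient N) χ)
  set Kt := K.comap (QuotientGroup.mk' N) with hKt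
  have hKtidx : Kt.index = K.index := by
    rw [hKt, Subgroup.index_comap_of_surjective _ (QuotientGroup.mk'_surjective N)]
  by_cases hdeg : DegLE Kt (b - 1)
  · exact Or.inl ⟨Kt, hKtidx ▸ hf.trans (Nat.le_self_pow two_ne_zero b), hdeg⟩
  obtain ⟨ψ, hψ'⟩ := not_forall.1 hdeg
  have hψ : charDegree (ψ : Kt → ℂ) = b := by
    have := (hb.subgroup Kt) ψ
    omega
  have hNKt : N ≤ Kt := fun x hx => by
    rw [hKt, Subgroup.mem_comap, QuotientGroup.mk'_apply, (QuotientGroup.eq_one_iff x).2 hx]
    exact one_mem _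
  have hsup : ∀ h : Kt, ψ.1 h ≠ 0 → (h : G) ∈ N := mem_of_ne_zero_normal hb N Kt
    (fun x hx y hy => by
      rw [← QuotientGroup.eq_one_iff]
      simp only [QuotientGroup.mk_mul, QuotientGroup.mk_inv]
      rw [mul_inv_eq_one, mul_inv_eq_iff_eq_mul]
      exact hcomK _ hx _ hy)
    (fun h _ hall => by
      rw [← QuotientGroup.eq_one_iff, ← Subgroup.mem_bot, ← hZ, Subgroup.mem_center_iff]
      intro y
      obtain ⟨y, rfl⟩ := QuotientGroup.mk_surjective y
      have := (QuotientGroup.eq_one_iff _).2 (hall y)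
      simp only [QuotientGroup.mk_mul, QuotientGroup.mk_inv] at this
      rwa [mul_inv_eq_one, mul_inv_eq_iff_eq_mul] at this)
    ψ hψ
  have hrel : N.relIndex Kt = Nat.card K := by
    have h := Subgroup.relIndex_ker (QuotientGroup.mk' N) (K := Kt)
    rwa [QuotientGroup.ker_mk', hKt, Subgroup.map_comap_eq_self_of_surjective
      (QuotientGroup.mk'_surjective N)] at h
  have hq : Nat.card K ≤ b ^ 2 := hrel ▸ hψ ▸ relIndex_le_sq Kt ψ N hNKt hsup
  have hNidx : N.index ≤ b ^ 3 := by
    rw [Subgroup.index, ← K.card_mul_index, pow_succ]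
    exact Nat.mul_le_mul hq hf
  obtain ⟨η, hη⟩ := exists_nonlinear hna
  have hb2 : 2 ≤ b := hη.trans ((hb.quotient N) η)
  refine Or.inr ⟨N, ?_, degLE_half hb N η hη⟩
  rcases Nat.eq_or_lt_of_le hb2 with h | h3
  · exfalso
    subst h
    have hgC : ∀ x ∈ K, x * g = g * x → x = 1 := fun x h1 h2 =>
      hLK x h1 (Subgroup.mem_centralizer_singleton_iff.2 h2)
    have hgK : g ∉ K := fun hgK => hg (Subgroup.mem_centralizer_iff.2 fun k hk => hcomK k hk g hgK)
    have hidx2 : K.index = 2 := by
      have h0 : K.index ≠ 0 := Subgroup.index_ne_zero_of_finite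
      have h1 : K.index ≠ 1 := fun h1 => hgK (Subgroup.index_eq_one.1 h1 ▸ Subgroup.mem_top g)
      omega
    have hgg : g * g = 1 := hgC _ (Subgroup.mul_self_mem_of_index_two hidx2 g) (mul_assoc g g g)
    have hinv : ∀ k ∈ K, g * k * g = k⁻¹ := by
      intro k hk
      have hgi : g⁻¹ = g := inv_eq_of_mul_eq_one_left hgg
      have hgk : g * k * g ∈ K := by
        have := (inferInstance : K.Normal).conj_mem k hk g
        rwa [hgi] at this
      have h1 : k * (g * k * g) = 1 := by
        refine hgC _ (mul_mem hk hgk) ?_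
        calc k * (g * k * g) * g = k * (g * k) * (g * g) := by group
          _ = (g * g) * k * (g * k) := by rw [hgg]; group
          _ = g * ((g * k * g) * k) := by group
          _ = g * (k * (g * k * g)) := by rw [hcomK _ hgk _ hk]
      exact eq_inv_of_mul_eq_one_right h1
    have hq3 : Nat.card K = 3 := by
      have h1 : 1 < Nat.card K := (Subgroup.one_lt_card_iff_ne_bot K).2 hna
      have h4 : Nat.card K ≤ 4 := hq
      have hodd : ¬ 2 ∣ Nat.card K := by
        intro h2
        obtain ⟨k, hk⟩ := exists_prime_orderOf_dvd_card' 2 h2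
        have hk1 : (k : G ⧸ N) ≠ 1 := fun e => by
          rw [OneMemClass.coe_eq_one] at e
          rw [e, orderOf_one] at hk
          omega
        have hkk : (k : G ⧸ N)⁻¹ = k := inv_eq_of_mul_eq_one_left (by
          have := pow_orderOf_eq_one k
          rw [hk, pow_two] at this
          exact congrArg Subtype.val this)
        apply hk1
        refine hgC _ k.2 ?_
        have := hinv k k.2
        rw [hkk] at this
        calc (k : G ⧸ N) * g = g * k * g * g := by rw [this]
          _ = g * k := by rw [mul_assoc (g * k), hgg, mul_one]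
      omega
    -- `ψ` restricted to `N` would have norm three and degree two
    have := Fintype.ofFinite Kt
    set N0 := N.subgroupOf Kt
    have := Fintype.ofFinite N0
    obtain ⟨m, hm, hsum⟩ := H26.exists_nat_coeffs
      (H26.isCharacter_comp (H26.irr_isCharacter ψ) N0.subtype)
    have hlin : ∀ τ : IrrCharacter N0, τ.1 1 = 1 := by
      refine fun τ => H26.irr_one_eq_one_of_comm (fun a c => ?_) τ
      have hN1 : ∀ x y : N, x * y = y * x := H26.comm_iff_forall_irr_one.mpr fun τ' => by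
        have h1 := H44.charDegree_pos τ'
        have h2 := degLE_half hb N η hη τ'
        rw [← H44.cast_charDegree, show charDegree (τ' : N → ℂ) = 1 by omega, Nat.cast_one]
      apply Subtype.ext
      apply Subtype.ext
      have h := congrArg Subtype.val (hN1 ⟨((a : Kt) : G), a.2⟩ ⟨((c : Kt) : G), c.2⟩)
      simpa using h
    have hs2 : ∑ τ, m τ = 2 := by
      have h1 := congrFun hsum 1
      simp only [Function.comp_apply, map_one, Finset.sum_apply, Pi.smul_apply, smul_eq_mul,
        hlin, mul_one] at h1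
      rw [← H44.cast_charDegree, hψ] at h1
      exact_mod_cast h1.symm
    have hs3 : ∑ τ, m τ * m τ = 3 := by
      have h1 := H26.classInner_eq_sum (ψ.1 ∘ N0.subtype) (ψ.1 ∘ N0.subtype)
        (H26.isClassFunction_of_isCharacter (H26.isCharacter_comp (H26.irr_isCharacter ψ) N0.subtype))
      simp only [hm, map_natCast] at h1
      have h2 : ∑ x : N0, Complex.normSq (ψ.1 (x : Kt)) = (Nat.card Kt : ℝ) := by
        rw [← sum_normSq ψ, ← Finset.sum_subset (Finset.subset_univ (Finset.univ.filter (· ∈ N0)))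
          (fun x _ hx => by
            rw [Complex.normSq_eq_zero]
            by_contra hne
            exact hx (Finset.mem_filter.2 ⟨Finset.mem_univ x, hsup x hne⟩)),
          Finset.sum_subtype (p := (· ∈ N0)) _ (by simp) (fun x => Complex.normSq (ψ.1 x))]
      have h3 : classInner (ψ.1 ∘ N0.subtype) (ψ.1 ∘ N0.subtype) = 3 := by
        have h4 : ∑ x : N0, (ψ.1 ∘ N0.subtype) x * conj ((ψ.1 ∘ N0.subtype) x) =
            (Nat.card Kt : ℂ) := by
          simp only [Function.comp_apply, Subgroup.coe_subtype, Complex.mul_conj,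
            ← Complex.ofReal_sum, h2, Complex.ofReal_natCast]
        rw [classInner, h4, ← N0.card_mul_index, show N0.index = 3 from hrel.trans hq3,
          Nat.cast_mul, inv_mul_cancel_left₀ (Nat.cast_ne_zero.2 Nat.card_pos.ne')]
        norm_num
      rw [h3] at h1
      exact_mod_cast h1.symm
    have h2 : 2 ∣ ∑ τ, (m τ * m τ + m τ) := Finset.dvd_sum fun τ _ => by
      rw [← even_iff_two_dvd, show m τ * m τ + m τ = m τ * (m τ + 1) by ring]
      exact Nat.even_mul_succ_self _
    rw [Finset.sum_add_distrib, hs2, hs3] at h2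
    omega
  · refine (Nat.mul_le_mul_right _ hNidx).trans ?_
    rcases Nat.eq_or_lt_of_le h3 with h | h4
    · subst h; norm_num [Nat.factorial]
    · obtain ⟨c, rfl⟩ : ∃ c, b = c + 2 := ⟨b - 2, by omega⟩
      have h5 : Nat.factorial ((c + 2) / 2) ≤ Nat.factorial c := Nat.factorial_le (by omega)
      have h6 : (c + 2) ^ 3 ≤ ((c + 2) * (c + 1)) ^ 2 := by
        rw [mul_pow, pow_succ]
        exact Nat.mul_le_mul_left _ (by nlinarith)
      calc (c + 2) ^ 3 * Nat.factorial ((c + 2) / 2) ^ 2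
          ≤ ((c + 2) * (c + 1)) ^ 2 * Nat.factorial c ^ 2 :=
            Nat.mul_le_mul h6 (Nat.pow_le_pow_left h5 2)
        _ = Nat.factorial (c + 2) ^ 2 := by
            rw [Nat.factorial_succ, Nat.factorial_succ]; ring

end Cases

/-- A perfect simple group has an irreducible degree above four. -/
theorem false_of_simple {T : Type u} [Group T] [Finite T] [Nontrivial T]
    (hs : ∀ M : Subgroup T, M.Normal → M = ⊥ ∨ M = ⊤) (hp : commutator T = ⊤)
    (hd : DegLE T 4) : False := by
  classical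
  have := Fintype.ofFinite T
  have hZ : Subgroup.center T = ⊥ := (hs _ inferInstance).resolve_right fun h => by
    rw [← commutator_eq_bot_iff_center_eq_top, hp] at h
    exact top_ne_bot h
  have hfaith : ∀ χ : IrrCharacter T, χ ≠ H26.oneIrr T →
      (∀ g, χ.1 g = χ.1 1 → g = 1) ∧ 2 ≤ charDegree (χ : T → ℂ) := by
    intro χ hχ
    have hlin : charDegree (χ : T → ℂ) ≠ 1 := fun h => hχ (by
      obtain ⟨f, hf⟩ := H26.exists_hom_of_isCharacter_one (H26.irr_isCharacter χ)
        (by rw [← H44.cast_charDegree, h, Nat.cast_one])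
      refine Subtype.ext (funext fun g => ?_)
      rw [H26.oneIrr_val, ← hf, show f g = 1 from
        Abelianization.commutator_subset_ker f (hp ▸ Subgroup.mem_top g), Units.val_one])
    have := H44.charDegree_pos χ
    refine ⟨fun g hg => ?_, by omega⟩
    rcases hs _ (H44.kerOf_normal χ) with h | h
    · exact Subgroup.mem_bot.1 (h ▸ (H44.mem_kerOf.2 hg : g ∈ H44.kerOf χ))
    · exfalso
      apply hlin
      have hconst : ∀ x, χ.1 x = χ.1 1 := fun x =>
        H44.mem_kerOf.1 (h ▸ Subgroup.mem_top x : x ∈ H44.kerOf χ)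
      have h1 := sum_normSq χ
      simp only [hconst, ← H44.cast_charDegree, Complex.normSq_natCast, Finset.sum_const,
        Finset.card_univ, nsmul_eq_mul, ← Nat.card_eq_fintype_card] at h1
      have h2 : (charDegree (χ : T → ℂ) : ℝ) * charDegree (χ : T → ℂ) = 1 :=
        mul_left_cancel₀ (Nat.cast_ne_zero.2 (Nat.card_pos (α := T)).ne') (h1.trans (mul_one _).symm)
      exact Nat.eq_one_of_mul_eq_one_left (by exact_mod_cast h2)
  set S := Finset.univ.erase (H26.oneIrr T) with hS
  by_cases he : 2 ∣ Nat.card T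
  · obtain ⟨t, ht⟩ := exists_prime_orderOf_dvd_card' 2 he
    have ht1 : t ≠ 1 := fun h => by rw [h, orderOf_one] at ht; omega
    have hval : ∀ χ ∈ S, χ.1 t * conj (χ.1 1) =
        ((if charDegree (χ : T → ℂ) = 3 then -3 else 0 : ℤ) : ℂ) := by
      intro χ hχ
      obtain ⟨hf, h2⟩ := hfaith χ (Finset.mem_erase.1 hχ).1
      have h4 := hd χ
      obtain ⟨n, ρ, -, e⟩ := id χ.2
      have hn : charDegree (χ : T → ℂ) = n := by
        rw [charDegree, ← e, ρ.char_one, Complex.natCast_re, Nat.floor_natCast, Module.finrank_fin_fun]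
      have hTT : ∀ v, ρ t (ρ t v) = v := fun v => by
        rw [← Module.End.mul_apply, ← map_mul, ← pow_two, ← ht, pow_orderOf_eq_one, map_one,
          Module.End.one_apply]
      obtain ⟨hdim, hdet⟩ := H62.InvSim.det_involution (F := ℂ) two_ne_zero (ρ t) hTT
      set w := Module.finrank ℂ (LinearMap.ker (ρ t - 1)) with hw
      set u := Module.finrank ℂ (LinearMap.ker (ρ t + 1)) with hu
      rw [Module.finrank_fin_fun] at hdim
      have hu2 : Even u := by
        have h1 : H43.detHom ρ t = 1 :=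
          Abelianization.commutator_subset_ker (H43.detHom ρ) (hp ▸ Subgroup.mem_top t)
        have h1' : (H43.detHom ρ t : ℂ) = 1 := by rw [h1, Units.val_one]
        rw [H43.detHom_coe, hdet] at h1'
        exact (neg_one_pow_eq_one_iff_even (by norm_num)).1 h1'
      have htr : χ.1 t = 2 * (w : ℂ) - (n : ℂ) := by
        set P : Module.End ℂ (Fin n → ℂ) := (2 : ℂ)⁻¹ • (1 + ρ t) with hP
        have hproj : LinearMap.IsProj (LinearMap.ker (ρ t - 1)) P := by
          constructor
          · intro v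
            rw [LinearMap.mem_ker, LinearMap.sub_apply, Module.End.one_apply, hP]
            simp only [LinearMap.smul_apply, LinearMap.add_apply, Module.End.one_apply, map_smul,
              map_add, hTT]
            rw [add_comm (ρ t v) v, sub_self]
          · intro v hv
            rw [LinearMap.mem_ker, LinearMap.sub_apply, Module.End.one_apply, sub_eq_zero] at hv
            rw [hP]
            simp only [LinearMap.smul_apply, LinearMap.add_apply, Module.End.one_apply, hv]
            rw [← two_smul ℂ v, smul_smul, inv_mul_cancel₀ (two_ne_zero' ℂ), one_smul]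
        have h5 := hproj.trace
        rw [hP, map_smul, map_add, LinearMap.trace_one, Module.finrank_fin_fun, smul_eq_mul] at h5
        rw [← e]
        show LinearMap.trace ℂ (Fin n → ℂ) (ρ t) = _
        linear_combination (2 : ℂ) * h5
      have hu0 : u ≠ 0 := fun h0 => ht1 (hf t (by
        rw [htr, ← H44.cast_charDegree, hn, show w = n by omega]; ring))
      have hw0 : w ≠ 0 := fun h0 => ht1 (Subgroup.mem_bot.1 (hZ ▸
        H44.RootUnity.mem_center_of_norm hf (by rw [htr, h0, hn]; simp)))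
      rw [hn] at h2 h4 ⊢
      obtain ⟨r, hr⟩ := hu2
      rw [htr, ← H44.cast_charDegree, hn, Complex.conj_natCast]
      obtain rfl | rfl | rfl : n = 2 ∨ n = 3 ∨ n = 4 := by omega
      · omega
      · rw [show w = 1 by omega]; norm_num
      · rw [show w = 2 by omega]; norm_num
    have h := H26.column_orthogonality t 1
    rw [H26.classIndicator, if_neg (fun e => ht1 (isConj_one_left.1 e)), mul_zero,
      ← Finset.add_sum_erase Finset.univ _ (Finset.mem_univ (H26.oneIrr T)), ← hS,
      Finset.sum_congr rfl hval, H26.oneIrr_val, H26.oneIrr_val, map_one, mul_one,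
      ← Int.cast_sum] at h
    have h' : (1 : ℤ) + ∑ χ ∈ S, (if charDegree (χ : T → ℂ) = 3 then -3 else 0 : ℤ) = 0 := by
      exact_mod_cast h
    have hdvd : (3 : ℤ) ∣ ∑ χ ∈ S, (if charDegree (χ : T → ℂ) = 3 then -3 else 0 : ℤ) :=
      Finset.dvd_sum fun χ _ => by split_ifs <;> norm_num
    obtain ⟨r, hr⟩ := hdvd
    omega
  · have h3 : ∀ χ ∈ S, charDegree (χ : T → ℂ) = 3 := by
      intro χ hχ
      obtain ⟨-, h2⟩ := hfaith χ (Finset.mem_erase.1 hχ).1
      have h4 := hd χ
      have h5 := H42.charDegree_dvd_card χ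
      interval_cases h : charDegree (χ : T → ℂ)
      · exact absurd h5 he
      · rfl
      · exact absurd (Dvd.dvd.trans (by norm_num) h5) he
    have hsum : ∑ χ : IrrCharacter T, charDegree (χ : T → ℂ) ^ 2 = Nat.card T := by
      have h := H26.sum_sq_degrees (G := T)
      simp only [← H44.cast_charDegree] at h
      exact_mod_cast h
    have h1 : charDegree ((H26.oneIrr T : IrrCharacter T) : T → ℂ) = 1 := by
      apply Nat.cast_injective (R := ℂ)
      rw [H44.cast_charDegree, H26.oneIrr_val, Nat.cast_one]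
    rw [← Finset.add_sum_erase Finset.univ _ (Finset.mem_univ (H26.oneIrr T)), ← hS, h1,
      Finset.sum_congr rfl (fun χ hχ => by rw [h3 χ hχ]), Finset.sum_const, smul_eq_mul] at hsum
    have hne : S.Nonempty := by
      by_contra hemp
      rw [Finset.not_nonempty_iff_eq_empty.1 hemp, Finset.card_empty, zero_mul] at hsum
      have := Finite.one_lt_card (α := T)
      omega
    obtain ⟨χ, hχ⟩ := hne
    have := (h3 χ hχ) ▸ H42.charDegree_dvd_card χ
    omega

/-- A nontrivial perfect group has an irreducible degree above four. -/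
theorem five_le_of_perfect {R : Type u} [Group R] [Finite R] [Nontrivial R]
    (hp : commutator R = ⊤) {b : ℕ} (hb : DegLE R b) : 5 ≤ b := by
  by_contra hlt
  obtain ⟨M, -, hM⟩ := Finite.exists_le_maximal
    (p := fun M : Subgroup R => M.Normal ∧ M ≠ ⊤) (a := ⊥) ⟨inferInstance, bot_ne_top⟩
  have := hM.1.1
  have : Nontrivial (R ⧸ M) := QuotientGroup.nontrivial_iff.2 hM.1.2
  have hπ := QuotientGroup.mk'_surjective M
  refine false_of_simple (T := R ⧸ M) (fun L hL => ?_) ?_
    (fun χ => ((hb.quotient M) χ).trans (by omega))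
  · by_cases hLt : L = ⊤
    · exact Or.inr hLt
    left
    have hLM : M ≤ L.comap (QuotientGroup.mk' M) := fun x hx => by
      rw [Subgroup.mem_comap, QuotientGroup.mk'_apply, (QuotientGroup.eq_one_iff x).2 hx]
      exact one_mem _
    have hne : L.comap (QuotientGroup.mk' M) ≠ ⊤ := fun h => hLt (by
      rw [← Subgroup.map_comap_eq_self_of_surjective hπ L, h, Subgroup.map_top_of_surjective _ hπ])
    have he := le_antisymm (hM.2 ⟨inferInstance, hne⟩ hLM) hLM
    rw [← Subgroup.map_comap_eq_self_of_surjective hπ L, he,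
      (Subgroup.map_eq_bot_iff _).2 (QuotientGroup.ker_mk' M).ge]
  · rw [commutator_def, ← Subgroup.map_top_of_surjective _ hπ, ← Subgroup.map_commutator,
      ← commutator_def, hp]

/-- Some non-central class of a group with trivial centre has size at most `b²`. -/
theorem exists_small_class {X : Type u} [Group X] [Finite X] [Nontrivial X] {b : ℕ}
    (hb : DegLE X b) :
    ∃ x : X, x ≠ 1 ∧ (Subgroup.centralizer ({x} : Set X)).index ≤ b ^ 2 := by
  classical
  have := Fintype.ofFinite X
  by_contra hall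
  push Not at hall
  have hone : charDegree ((H26.oneIrr X : IrrCharacter X) : X → ℂ) = 1 := by
    apply Nat.cast_injective (R := ℂ)
    rw [H44.cast_charDegree, H26.oneIrr_val, Nat.cast_one]
  have hsum : ∑ χ : IrrCharacter X, charDegree (χ : X → ℂ) ^ 2 = Nat.card X := by
    have h := H26.sum_sq_degrees (G := X)
    simp only [← H44.cast_charDegree] at h
    exact_mod_cast h
  have hk : Fintype.card (IrrCharacter X) = Fintype.card (ConjClasses X) := by
    rw [← Nat.card_eq_fintype_card, ← Nat.card_eq_fintype_card, H26.card_irr_eq_card_conjClasses]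
  set S := Finset.univ.erase (H26.oneIrr X) with hS
  set C := Finset.univ.erase (ConjClasses.mk (1 : X)) with hC
  have hSC : S.card = C.card := by
    rw [hS, hC, Finset.card_erase_of_mem (Finset.mem_univ _),
      Finset.card_erase_of_mem (Finset.mem_univ _), Finset.card_univ, Finset.card_univ, hk]
  have hup : Nat.card X ≤ 1 + S.card * b ^ 2 := by
    rw [← hsum, ← Finset.add_sum_erase Finset.univ _ (Finset.mem_univ (H26.oneIrr X)), hone]
    refine Nat.add_le_add (by norm_num) ((Finset.sum_le_card_nsmul S _ (b ^ 2) fun χ _ =>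
      Nat.pow_le_pow_left (hb χ) 2).trans_eq (smul_eq_mul _ _))
  have hfib : Nat.card X = ∑ c : ConjClasses X,
      (Finset.univ.filter fun y : X => ConjClasses.mk y = c).card := by
    rw [Nat.card_eq_fintype_card, ← Finset.card_univ]
    exact Finset.card_eq_sum_card_fiberwise fun y _ => Finset.mem_univ _
  have hlow : 1 + C.card * (b ^ 2 + 1) ≤ Nat.card X := by
    rw [hfib, ← Finset.add_sum_erase Finset.univ _ (Finset.mem_univ (ConjClasses.mk (1 : X))), ← hC]
    refine Nat.add_le_add (Finset.card_pos.2 ⟨1, by simp⟩)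
      ((smul_eq_mul _ _).symm.trans_le (Finset.card_nsmul_le_sum C _ _ fun c hc => ?_))
    induction c using Quotient.inductionOn' with
    | h x =>
      have hx1 : x ≠ 1 := fun e => (Finset.mem_erase.1 hc).1 (by subst e; rfl)
      have h1 := H26.card_class_mul_card_centralizer x
      have h2 := hall x hx1
      have h3 : (Finset.univ.filter fun y : X => ConjClasses.mk y = ConjClasses.mk x).card =
          (Subgroup.centralizer ({x} : Set X)).index := by
        refine Nat.eq_of_mul_eq_mul_right (Nat.card_pos (α := Subgroup.centralizer ({x} : Set X))) ?_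
        rw [h1, Subgroup.index_mul_card]
      show b ^ 2 + 1 ≤ (Finset.univ.filter fun y : X => ConjClasses.mk y = ConjClasses.mk x).card
      omega
  have hCpos : 0 < C.card := by
    obtain ⟨y, hy⟩ := exists_ne (1 : X)
    exact Finset.card_pos.2 ⟨ConjClasses.mk y, Finset.mem_erase.2
      ⟨fun e => hy (isConj_one_right.1 (ConjClasses.mk_eq_mk_iff_isConj.1 e.symm)),
        Finset.mem_univ _⟩⟩
  rw [hSC] at hup
  nlinarith [hup, hlow]

theorem perfect_case {b : ℕ} (N : Subgroup G) [N.Normal]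
    (hmin : ∀ M : Subgroup (G ⧸ N), M.Normal → M ≠ ⊥ → commutator (G ⧸ N) ≤ M)
    (hna : commutator (G ⧸ N) ≠ ⊥)
    (hperf : ⁅commutator (G ⧸ N), commutator (G ⧸ N)⁆ = commutator (G ⧸ N)) (hb : DegLE G b) :
    (∃ H : Subgroup G, H.index ≤ b ^ 2 ∧ DegLE H (b - 1)) ∨
      (∃ H : Subgroup G, H.index * (Nat.factorial (b / 2)) ^ 2 ≤ Nat.factorial b ^ 2 ∧
        DegLE H (b / 2)) := by
  classical
  set K := commutator (G ⧸ N) with hK
  have hCK : Subgroup.centralizer (K : Set (G ⧸ N)) = ⊥ := by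
    by_contra hne
    have hle := hmin _ inferInstance hne
    apply hna
    rw [← hperf]
    exact Subgroup.commutator_eq_bot_iff_le_centralizer.2 hle
  have : Nontrivial (G ⧸ N) := by
    by_contra h
    rw [not_nontrivial_iff_subsingleton] at h
    exact hna (Subsingleton.elim _ _)
  have : Nontrivial K := (Subgroup.nontrivial_iff_ne_bot K).2 hna
  have hb5 : 5 ≤ b := five_le_of_perfect (R := K) (by
    apply Subgroup.map_injective K.subtype_injective
    rw [commutator_def, Subgroup.map_commutator, ← MonoidHom.range_eq_map, Subgroup.range_subtype,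
      hperf]) ((hb.quotient N).subgroup K)
  obtain ⟨x, hx1, hx⟩ := exists_small_class (hb.quotient N)
  set C := Subgroup.centralizer ({x} : Set (G ⧸ N)) with hC
  have hπ := QuotientGroup.mk'_surjective N
  set H := C.comap (QuotientGroup.mk' N) with hH
  have hHidx : H.index = C.index := by rw [hH, Subgroup.index_comap_of_surjective _ hπ]
  by_cases hdeg : DegLE H (b - 1)
  · exact Or.inl ⟨H, hHidx ▸ hx, hdeg⟩
  obtain ⟨ψ, hψ'⟩ := not_forall.1 hdeg
  have hψ : charDegree (ψ : H → ℂ) = b := by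
    have := (hb.subgroup H) ψ
    omega
  have hcore : C.normalCore = ⊥ := by
    by_contra hne
    refine hx1 (Subgroup.mem_bot.1 (hCK ▸ Subgroup.mem_centralizer_iff.2 fun k hk => ?_))
    exact Subgroup.mem_centralizer_singleton_iff.1
      (C.normalCore_le (hmin _ inferInstance hne hk))
  have hsup : ∀ h : H, ψ.1 h ≠ 0 → (h : G) ∈ N := by
    intro h hne
    rw [← QuotientGroup.eq_one_iff, ← Subgroup.mem_bot, ← hcore]
    intro y
    obtain ⟨y, rfl⟩ := hπ y
    have h1 := conj_mem_of_ne_zero hb H ψ hψ h hne y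
    have h1' : QuotientGroup.mk' N (y * h * y⁻¹) ∈ C := h1
    rwa [map_mul, map_mul, map_inv] at h1' 
  have hNH : N ≤ H := fun y hy => by
    rw [hH, Subgroup.mem_comap, QuotientGroup.mk'_apply, (QuotientGroup.eq_one_iff y).2 hy]
    exact one_mem _
  have hrel : N.relIndex H = Nat.card C := by
    have h := Subgroup.relIndex_ker (QuotientGroup.mk' N) (K := H)
    rwa [QuotientGroup.ker_mk', hH, Subgroup.map_comap_eq_self_of_surjective hπ] at h
  have hq : Nat.card C ≤ b ^ 2 := hrel ▸ hψ ▸ relIndex_le_sq H ψ N hNH hsup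
  have hNidx : N.index ≤ b ^ 4 := by
    rw [Subgroup.index, ← C.card_mul_index, show b ^ 4 = b ^ 2 * b ^ 2 by ring]
    exact Nat.mul_le_mul hq hx
  obtain ⟨η, hη⟩ := exists_nonlinear hna
  refine Or.inr ⟨N, ?_, degLE_half hb N η hη⟩
  obtain ⟨c, rfl⟩ : ∃ c, b = c + 3 := ⟨b - 3, by omega⟩
  have h5 : Nat.factorial ((c + 3) / 2) ≤ Nat.factorial c := Nat.factorial_le (by omega)
  have h6 : (c + 3) ^ 2 ≤ (c + 3) * (c + 2) * (c + 1) := by
    rw [pow_two, mul_assoc]
    exact Nat.mul_le_mul_left _ (by nlinarith)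
  calc N.index * Nat.factorial ((c + 3) / 2) ^ 2
      ≤ ((c + 3) * (c + 2) * (c + 1)) ^ 2 * Nat.factorial c ^ 2 :=
        Nat.mul_le_mul (hNidx.trans (by rw [show (c + 3) ^ 4 = ((c + 3) ^ 2) ^ 2 by ring];
                                        exact Nat.pow_le_pow_left h6 2))
          (Nat.pow_le_pow_left h5 2)
    _ = Nat.factorial (c + 3) ^ 2 := by
        rw [Nat.factorial_succ, Nat.factorial_succ, Nat.factorial_succ]; ring

/-- The bound. -/
theorem exists_abelian_index_le : ∀ (b : ℕ) (G : Type u) [Group G] [Finite G], DegLE G b →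
    ∃ A : Subgroup G, (∀ x ∈ A, ∀ y ∈ A, x * y = y * x) ∧ A.index ≤ Nat.factorial b ^ 2 := by
  intro b
  induction b using Nat.strong_induction_on with
  | _ b ih =>
  intro G _ _ hb
  classical
  by_cases hab : commutator G = ⊥
  · refine ⟨⊤, fun x _ y _ => ?_, ?_⟩
    · rw [commutator_eq_bot_iff_center_eq_top] at hab
      exact Subgroup.mem_center_iff.1 (hab ▸ Subgroup.mem_top y) x
    · rw [Subgroup.index_top]
      exact Nat.one_le_pow _ _ (Nat.factorial_pos b)
  have hb2 : 2 ≤ b := by
    obtain ⟨η, hη⟩ := exists_nonlinear hab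
    exact hη.trans (hb η)
  suffices h : ∃ (H : Subgroup G) (m : ℕ), m < b ∧
      H.index * Nat.factorial m ^ 2 ≤ Nat.factorial b ^ 2 ∧ DegLE H m by
    obtain ⟨H, m, hm, hidx, hH⟩ := h
    obtain ⟨A, hA, hAidx⟩ := ih m hm H hH
    refine ⟨A.map H.subtype, ?_, ?_⟩
    · rintro _ ⟨x, hx, rfl⟩ _ ⟨y, hy, rfl⟩
      exact congrArg Subtype.val (hA x hx y hy)
    · rw [Subgroup.index_map_subtype]
      calc A.index * H.index ≤ Nat.factorial m ^ 2 * H.index := Nat.mul_le_mul_right _ hAidx
        _ = H.index * Nat.factorial m ^ 2 := mul_comm _ _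
        _ ≤ _ := hidx
  obtain ⟨N, hNn, hN, hmax, hcase⟩ : ∃ N : Subgroup G, N.Normal ∧ ¬ commutator G ≤ N ∧
      (∀ M : Subgroup G, M.Normal → N ≤ M → ¬ commutator G ≤ M → M ≤ N) ∧
      (⁅commutator G, commutator G⁆ ≤ N ∨ ⁅commutator G, commutator G⁆ = commutator G) := by
    by_cases hd : ⁅commutator G, commutator G⁆ = commutator G
    · obtain ⟨N, -, hN⟩ := Finite.exists_le_maximal
        (p := fun M : Subgroup G => M.Normal ∧ ¬ commutator G ≤ M) (a := ⊥)
        ⟨inferInstance, fun h => hab (le_bot_iff.1 h)⟩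
      exact ⟨N, hN.1.1, hN.1.2, fun M h1 h2 h3 => hN.2 ⟨h1, h3⟩ h2, Or.inr hd⟩
    · have hle : ⁅commutator G, commutator G⁆ ≤ commutator G := Subgroup.commutator_le_left _ _
      obtain ⟨N, hle', hN⟩ := Finite.exists_le_maximal
        (p := fun M : Subgroup G => M.Normal ∧ ¬ commutator G ≤ M)
        (a := ⁅commutator G, commutator G⁆) ⟨inferInstance, fun h => hd (le_antisymm hle h)⟩
      exact ⟨N, hN.1.1, hN.1.2, fun M h1 h2 h3 => hN.2 ⟨h1, h3⟩ h2, Or.inl hle'⟩
  have hπ := QuotientGroup.mk'_surjective N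
  have hKmap : (commutator G).map (QuotientGroup.mk' N) = commutator (G ⧸ N) := by
    rw [commutator_def, Subgroup.map_commutator, Subgroup.map_top_of_surjective _ hπ,
      ← commutator_def]
  have hK'map : (⁅commutator G, commutator G⁆).map (QuotientGroup.mk' N) =
      ⁅commutator (G ⧸ N), commutator (G ⧸ N)⁆ := by rw [Subgroup.map_commutator, hKmap]
  have hna : commutator (G ⧸ N) ≠ ⊥ := by
    rw [← hKmap, Ne, Subgroup.map_eq_bot_iff, QuotientGroup.ker_mk']
    exact hN
  have hmin : ∀ M : Subgroup (G ⧸ N), M.Normal → M ≠ ⊥ → commutator (G ⧸ N) ≤ M := by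
    intro M hM hM0
    rw [← hKmap, Subgroup.map_le_iff_le_comap]
    by_contra hle
    have hNM : N ≤ M.comap (QuotientGroup.mk' N) := fun y hy => by
      rw [Subgroup.mem_comap, QuotientGroup.mk'_apply, (QuotientGroup.eq_one_iff y).2 hy]
      exact one_mem _
    apply hM0
    rw [← Subgroup.map_comap_eq_self_of_surjective hπ M, Subgroup.map_eq_bot_iff,
      QuotientGroup.ker_mk']
    exact hmax _ inferInstance hNM hle
  have hstep : (∃ H : Subgroup G, H.index ≤ b ^ 2 ∧ DegLE H (b - 1)) ∨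
      (∃ H : Subgroup G, H.index * (Nat.factorial (b / 2)) ^ 2 ≤ Nat.factorial b ^ 2 ∧
        DegLE H (b / 2)) := by
    by_cases hZ : Subgroup.center (G ⧸ N) = ⊥
    · rcases hcase with h | h
      · refine abelian_case N hmin hna hb hZ ⟨⟨fun x y => Subtype.ext ?_⟩⟩
        have h2 : ⁅commutator (G ⧸ N), commutator (G ⧸ N)⁆ = ⊥ := by
          rw [← hK'map, Subgroup.map_eq_bot_iff, QuotientGroup.ker_mk']; exact h
        exact (Subgroup.mem_centralizer_iff.1
          (Subgroup.commutator_eq_bot_iff_le_centralizer.1 h2 y.2) x x.2 : _)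
      · exact perfect_case N hmin hna (by rw [← hK'map, h, hKmap]) hb
    · exact Or.inl (center_case N hmin hna hb hZ)
  rcases hstep with ⟨H, h1, h2⟩ | ⟨H, h1, h2⟩
  · refine ⟨H, b - 1, by omega, ?_, h2⟩
    obtain ⟨c, rfl⟩ : ∃ c, b = c + 1 := ⟨b - 1, by omega⟩
    rw [Nat.add_sub_cancel, Nat.factorial_succ, mul_pow]
    exact Nat.mul_le_mul_right _ h1
  · exact ⟨H, b / 2, Nat.div_lt_self (by omega) (by norm_num), h1, h2⟩

end Cfsg.Agent.H28.AbInd
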