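import Cfsg.Agent.H22.Fusion
import Cfsg.Agent.H22.AbelianSylow
import Cfsg.Agent.H19.Cores
import Cfsg.Agent.H27.Induction
import Cfsg.Agent.H40.PPart
import Cfsg.Agent.H41.PrimeNormal
import Cfsg.Prelude.Def_Blocks

/-!
# Sections of an abelian Sylow subgroup with semiregular automiser

Lifting of `N(P)`-invariant functions on an abelian Sylow `p`-subgroup `P` to the group,
where no element outside `C(P)` of the normaliser centralises a nontrivial element of `P`.
-/

set_option autoImplicit false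
set_option linter.unusedSectionVars false

open scoped ComplexConjugate

namespace Cfsg.Agent.H28.Ab

variable {G : Type*} [Group G] [Finite G] {p : ℕ} [Fact p.Prime]

/-- The automiser of the abelian Sylow subgroup `P` has order `m` and acts semiregularly. -/
structure Ctx (P : Sylow p G) (m : ℕ) : Prop where
  comm : IsMulCommutative P
  index : (Subgroup.centralizer ((P : Subgroup G) : Set G)).relIndex
    (Subgroup.normalizer ((P : Subgroup G) : Set G)) = m
  free : ∀ y : G, y ∈ (P : Subgroup G) → y ≠ 1 →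
    Subgroup.centralizer ({y} : Set G) ⊓ Subgroup.normalizer ((P : Subgroup G) : Set G) =
      Subgroup.centralizer ((P : Subgroup G) : Set G)

/-- Invariance of a function on `P` under the normaliser. -/
def Inv {α : Type*} (P : Sylow p G) (f : ↥(P : Subgroup G) → α) : Prop :=
  ∀ n : G, n ∈ Subgroup.normalizer ((P : Subgroup G) : Set G) →
    ∀ w w' : ↥(P : Subgroup G), (w' : G) = n * w * n⁻¹ → f w' = f w

variable {P : Sylow p G} {m : ℕ}

/-- Elements of `P` have prime power order. -/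
theorem exists_orderOf (y : ↥(P : Subgroup G)) : ∃ k : ℕ, orderOf (y : G) = p ^ k := by
  obtain ⟨k, hk⟩ := IsPGroup.iff_orderOf.1 P.2 y
  exact ⟨k, by rw [Subgroup.orderOf_coe, hk]⟩

/-- Every element of `P` is its own `p`-part. -/
theorem isPPart_self (y : ↥(P : Subgroup G)) : Cfsg.IsPPart p (y : G) (y : G) :=
  ⟨1, mul_one _, Commute.one_right _, exists_orderOf y, by simp [(Fact.out : p.Prime).ne_one]⟩

/-- An element of `P` is regular only if trivial. -/
theorem dvd_orderOf_of_ne_one {y : G} (hy : y ∈ (P : Subgroup G)) (hy1 : y ≠ 1) :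
    p ∣ orderOf y := by
  obtain ⟨k, hk⟩ := exists_orderOf (⟨y, hy⟩ : ↥(P : Subgroup G))
  cases k with
  | zero => exact absurd (orderOf_eq_one_iff.1 (by simpa using hk)) hy1
  | succ k => exact ⟨p ^ k, by rw [hk, pow_succ']⟩

/-- Every element has a `p`-part conjugate into `P`. -/
theorem exists_rep (P : Sylow p G) (g : G) :
    ∃ y : ↥(P : Subgroup G), ∃ x : G, Cfsg.IsPPart p g x ∧ IsConj x (y : G) := by
  obtain ⟨x, hx⟩ := H40.exists_isPPart p g
  obtain ⟨-, -, -, ⟨k, hk⟩, -⟩ := id hx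
  obtain ⟨Q, hQ⟩ := (IsPGroup.of_card (p := p) (n := k)
    (by rw [Nat.card_zpowers, hk]) : IsPGroup p (Subgroup.zpowers x)).exists_le_sylow
  obtain ⟨c, hc⟩ := MulAction.exists_smul_eq G Q P
  refine ⟨⟨c * x * c⁻¹, ?_⟩, x, hx, isConj_iff.2 ⟨c, rfl⟩⟩
  rw [← hc]
  exact H22.conj_mem_smul_sylow (hQ (Subgroup.mem_zpowers x))

/-- Fusion in `P` is controlled by the normaliser. -/
theorem Ctx.inv_eq {α : Type*} (h : Ctx P m) {f : ↥(P : Subgroup G) → α} (hf : Inv P f)
    {y y' : ↥(P : Subgroup G)} (hyy : IsConj (y : G) (y' : G)) : f y' = f y := by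
  obtain ⟨c, hc⟩ := isConj_iff.1 hyy
  obtain ⟨n, hn, hnc⟩ := H22.abelian_sylow_controls P h.comm (y : G) y.2 c (hc ▸ y'.2)
  exact hf n hn y y' ((hnc.trans hc).symm)

open scoped Classical in
/-- The lift of a function on `P` to the group, through `p`-parts. -/
noncomputable def lift {α : Type*} [Zero α] (P : Sylow p G) (f : ↥(P : Subgroup G) → α) (g : G) : α :=
  if h : ∃ y : ↥(P : Subgroup G), ∃ x : G, Cfsg.IsPPart p g x ∧ IsConj x (y : G) then f h.choose
  else 0

/-- The lift at an element with `p`-part conjugate to `y` takes the value at `y`. -/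
theorem Ctx.lift_eq {α : Type*} [Zero α] (h : Ctx P m) {f : ↥(P : Subgroup G) → α} (hf : Inv P f)
    {g x : G} (hx : Cfsg.IsPPart p g x) {y : ↥(P : Subgroup G)} (hxy : IsConj x (y : G)) :
    lift P f g = f y := by
  rw [lift, dif_pos (exists_rep P g)]
  obtain ⟨x', hx', hxy'⟩ := (exists_rep P g).choose_spec
  rw [H40.isPPart_unique hx' hx] at hxy'
  exact h.inv_eq hf (hxy.symm.trans hxy')

/-- The lift at a regular element is the value at `1`. -/
theorem Ctx.lift_regular {α : Type*} [Zero α] (h : Ctx P m) {f : ↥(P : Subgroup G) → α}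
    (hf : Inv P f) {g : G} (hg : ¬ p ∣ orderOf g) : lift P f g = f 1 :=
  h.lift_eq hf (H40.isPPart_of_regular hg) (by simpa using IsConj.refl (1 : G))

/-- The lift is a class function. -/
theorem Ctx.lift_classFun (h : Ctx P m) {f : ↥(P : Subgroup G) → ℂ} (hf : Inv P f) :
    Cfsg.IsClassFunction G (lift P f) := by
  intro g c
  obtain ⟨y, x, hx, hxy⟩ := exists_rep P g
  rw [h.lift_eq hf hx hxy, h.lift_eq hf (H40.isPPart_conj c hx)
    ((isConj_iff.2 ⟨c, rfl⟩ : IsConj x (c * x * c⁻¹)).symm.trans hxy)]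

/-- In an elementary subgroup the extraction of `p`-parts is multiplicative. -/
theorem pow_mul_of_isElementary {q : ℕ} (hq : q.Prime) {E : Subgroup G}
    (hE : Cfsg.IsElementary q E) {k : ℕ} (hk : ∀ g x : G, Cfsg.IsPPart p g x → g ^ k = x)
    (a b : E) : ((a * b : E) : G) ^ k = (a : G) ^ k * (b : G) ^ k := by
  haveI := Fact.mk hq
  obtain ⟨z, hz, hzq, n, hn⟩ := hE
  obtain ⟨S⟩ : Nonempty (Sylow q E) := inferInstance
  have hqz : ¬ q ∣ Nat.card (Subgroup.zpowers z) := by
    rw [Nat.card_zpowers]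
    exact hq.coprime_iff_not_dvd.1 hzq.symm
  have hS : Nat.card S = q ^ n := by
    rw [S.card_eq_multiplicity, ← (Subgroup.zpowers z).card_mul_index, hn,
      Nat.factorization_mul Nat.card_pos.ne' (pow_ne_zero _ hq.ne_zero), Finsupp.add_apply,
      Nat.factorization_eq_zero_of_not_dvd hqz, hq.factorization_pow, Finsupp.single_eq_same,
      zero_add]
  have hcompl : Subgroup.IsComplement' (Subgroup.zpowers z) (S : Subgroup E) :=
    Subgroup.isComplement'_of_coprime (by rw [hS, ← hn, Subgroup.card_mul_index]) (by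
      rw [hS]
      exact (hq.coprime_iff_not_dvd.2 hqz).symm.pow_right n)
  have hpow : ∀ s ∈ (S : Subgroup E), (s : G) ^ k = if q = p then (s : G) else 1 := by
    intro s hs
    obtain ⟨j, hj⟩ := IsPGroup.iff_orderOf.1 S.2 ⟨s, hs⟩
    have hj' : orderOf (s : G) = q ^ j := by
      rw [Subgroup.orderOf_coe, ← Subgroup.orderOf_mk s hs, hj]
    split_ifs with hqp
    · subst hqp
      exact hk _ _ ⟨1, mul_one _, Commute.one_right _, ⟨j, hj'⟩,
        by simp [(Fact.out : q.Prime).ne_one]⟩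
    · refine hk _ _ (H40.isPPart_of_regular ?_)
      rw [hj']
      exact fun hd => hqp ((Nat.prime_dvd_prime_iff_eq Fact.out hq).1
        ((Fact.out : p.Prime).dvd_of_dvd_pow hd)).symm
  have hsmul : ∀ s ∈ (S : Subgroup E), ∀ t ∈ (S : Subgroup E),
      ((s * t : E) : G) ^ k = (s : G) ^ k * (t : G) ^ k := by
    intro s hs t ht
    rw [hpow _ (mul_mem hs ht), hpow s hs, hpow t ht]
    split_ifs <;> simp
  obtain ⟨⟨⟨u, hu⟩, ⟨s, hs⟩⟩, (rfl : u * s = a)⟩ := hcompl.surjective a
  obtain ⟨⟨⟨v, hv⟩, ⟨t, ht⟩⟩, (rfl : v * t = b)⟩ := hcompl.surjective b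
  have hc : ∀ w ∈ Subgroup.zpowers z, ∀ e : E, Commute (w : G) (e : G) := by
    intro w hw e
    exact congrArg Subtype.val
      (Subgroup.mem_center_iff.1 ((Subgroup.zpowers_le.2 hz) hw) e).symm
  have e1 : u * s * (v * t) = u * v * (s * t) := by
    have hcvs : Commute v s := Subtype.ext (hc v hv s)
    rw [mul_assoc, ← mul_assoc s, ← hcvs.eq, mul_assoc v, ← mul_assoc u]
  rw [e1]
  push_cast
  have h1 := hsmul s hs t ht
  push_cast at h1
  have hcuv : Commute ((u * v : E) : G) ((s * t : E) : G) := hc _ (mul_mem hu hv) _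
  push_cast at hcuv
  rw [hcuv.mul_pow, (hc u hu v).mul_pow, h1, (hc u hu s).mul_pow, (hc v hv t).mul_pow]
  have hcvs' : Commute ((v : G) ^ k) ((s : G) ^ k) := (hc v hv s).pow_pow k k
  simp only [mul_assoc]
  rw [← mul_assoc ((v : G) ^ k), hcvs'.eq, mul_assoc]

/-- The lift of an invariant generalized character is a generalized character. -/
theorem Ctx.lift_gen [Fintype G] (h : Ctx P m) {f : ↥(P : Subgroup G) → ℂ} (hf : Inv P f)
    (hgen : Cfsg.IsGeneralizedCharacter ↥(P : Subgroup G) f) :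
    Cfsg.IsGeneralizedCharacter G (lift P f) := by
  refine H27.mem_genChars_of_elementary (h.lift_classFun hf) fun E q hq hE => ?_
  obtain ⟨k, hk, hk'⟩ := H40.exists_pPart_exponent p G
  let ρ : E →* G :=
    { toFun := fun e => (e : G) ^ k
      map_one' := by simp
      map_mul' := fun a b => pow_mul_of_isElementary hq hE hk a b }
  have hR : IsPGroup p ρ.range := by
    rw [IsPGroup.iff_orderOf]
    rintro ⟨_, e, rfl⟩
    obtain ⟨-, -, -, hj, -⟩ := hk' (e : G)
    obtain ⟨j, hj⟩ := hj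
    exact ⟨j, (Subgroup.orderOf_coe _).symm.trans hj⟩
  obtain ⟨Q, hQ⟩ := hR.exists_le_sylow
  obtain ⟨c, hc⟩ := MulAction.exists_smul_eq G Q P
  let θ : E →* ↥(P : Subgroup G) :=
    ((MulAut.conj c).toMonoidHom.comp ρ).codRestrict (P : Subgroup G) fun e => by
      rw [← hc]
      exact H22.conj_mem_smul_sylow (hQ ⟨e, rfl⟩)
  obtain ⟨a, b, ha, hb, rfl⟩ := hgen
  refine ⟨a ∘ θ, b ∘ θ, H26.isCharacter_comp ha θ, H26.isCharacter_comp hb θ, funext fun e => ?_⟩
  exact h.lift_eq hf (hk' (e : G)) (isConj_iff.2 ⟨c, rfl⟩)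

open scoped Classical in
/-- The `p`-section of `y`. -/
noncomputable def section' [Fintype G] (p : ℕ) (y : G) : Finset G :=
  Finset.univ.filter fun g => ∃ x : G, Cfsg.IsPPart p g x ∧ IsConj x y

theorem mem_section' [Fintype G] {y g : G} :
    g ∈ section' p y ↔ ∃ x : G, Cfsg.IsPPart p g x ∧ IsConj x y := by
  simp [section']

/-- Centralisers of nontrivial elements of `P` have normal `p`-complements. -/
theorem Ctx.exists_complement (h : Ctx P m) {y : G} (hy : y ∈ (P : Subgroup G)) (hy1 : y ≠ 1) :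
    ∃ O : Subgroup (Subgroup.centralizer ({y} : Set G)), O.Normal ∧ ¬ p ∣ Nat.card O ∧
      O.index = Nat.card P := by
  have hPC : (P : Subgroup G) ≤ Subgroup.centralizer ({y} : Set G) := fun x hx =>
    Subgroup.mem_centralizer_singleton_iff.2
      (congrArg Subtype.val (h.comm.1.1 (⟨x, hx⟩ : ↥(P : Subgroup G)) ⟨y, hy⟩))
  let P' : Sylow p (Subgroup.centralizer ({y} : Set G)) := P.subtype hPC
  have hburn : Subgroup.normalizer (P' : Set (Subgroup.centralizer ({y} : Set G))) ≤
      Subgroup.centralizer (P' : Set (Subgroup.centralizer ({y} : Set G))) := by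
    intro n hn
    have hnN : (n : G) ∈ Subgroup.normalizer ((P : Subgroup G) : Set G) := by
      rw [Subgroup.mem_normalizer_iff]
      intro x
      constructor
      · intro hx
        exact (Subgroup.mem_normalizer_iff.1 hn ⟨x, hPC hx⟩).1 hx
      · intro hx
        have hxC : x ∈ Subgroup.centralizer ({y} : Set G) := by
          have := mul_mem (mul_mem (inv_mem n.2) (hPC hx)) n.2
          simpa [mul_assoc] using this
        exact (Subgroup.mem_normalizer_iff.1 hn ⟨x, hxC⟩).2 hx
    have hnC : (n : G) ∈ Subgroup.centralizer ((P : Subgroup G) : Set G) :=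
      (h.free y hy hy1).le ⟨n.2, hnN⟩
    rw [Subgroup.mem_centralizer_iff]
    intro x hx
    exact Subtype.ext (Subgroup.mem_centralizer_iff.1 hnC x hx)
  have hcompl := MonoidHom.ker_transferSylow_isComplement' P' hburn
  refine ⟨_, MonoidHom.normal_ker _, MonoidHom.not_dvd_card_ker_transferSylow P' hburn, ?_⟩
  rw [hcompl.symm.index_eq_card]
  exact Nat.card_congr (Subgroup.subgroupOfEquivOfLe hPC).toEquiv

/-- Every section of a nontrivial element of `P` has `|G| / |P|` elements. -/
theorem Ctx.card_section [Fintype G] (h : Ctx P m) {y : G} (hy : y ∈ (P : Subgroup G))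
    (hy1 : y ≠ 1) : (section' p y).card * Nat.card P = Nat.card G := by
  classical
  obtain ⟨O, hOn, hOp, hOi⟩ := h.exists_complement hy hy1
  obtain ⟨k, hk⟩ := IsPGroup.iff_card.1 P.2
  have hy' := exists_orderOf (⟨y, hy⟩ : ↥(P : Subgroup G))
  haveI := Fintype.ofFinite O
  let F : G × O → G := fun v => v.1 * (y * ((v.2 : Subgroup.centralizer ({y} : Set G)) : G)) * v.1⁻¹
  have hpart : ∀ v : G × O, Cfsg.IsPPart p (F v) (v.1 * y * v.1⁻¹) := by
    intro v
    refine H40.isPPart_conj v.1 ⟨_, rfl,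
      (Subgroup.mem_centralizer_singleton_iff.1 (v.2 : Subgroup.centralizer ({y} : Set G)).2).symm,
      hy', ?_⟩
    rw [Subgroup.orderOf_coe, Subgroup.orderOf_coe]
    exact fun hd => hOp (hd.trans (orderOf_dvd_natCard _))
  have hmaps : ∀ v ∈ (Finset.univ : Finset (G × O)), F v ∈ section' p y := fun v _ =>
    mem_section'.2 ⟨_, hpart v, (isConj_iff.2 ⟨v.1, rfl⟩ : IsConj y _).symm⟩
  have hfib : ∀ g ∈ section' p y, (Finset.univ.filter fun v : G × O => F v = g).card =
      Nat.card (Subgroup.centralizer ({y} : Set G)) := by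
    intro g hg
    obtain ⟨x, hx, hxy⟩ := mem_section'.1 hg
    obtain ⟨u, hu⟩ := isConj_iff.1 hxy.symm
    obtain ⟨g', hg', hcg, -, hreg⟩ := H40.isPPart_conj u⁻¹ hx
    have e : u⁻¹ * x * u⁻¹⁻¹ = y := by rw [← hu]; group
    rw [e] at hg' hcg
    have hg'C : g' ∈ Subgroup.centralizer ({y} : Set G) :=
      Subgroup.mem_centralizer_singleton_iff.2 hcg.eq.symm
    have hO : (⟨g', hg'C⟩ : Subgroup.centralizer ({y} : Set G)) ∈ O :=
      H41.mem_of_regular_of_index O ⟨k, hOi.trans hk⟩ (by rwa [Subgroup.orderOf_mk])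
    have hFuc : ∀ (c : Subgroup.centralizer ({y} : Set G)) (o : O),
        F (u * c, o) = u * (y * (((c * (o : Subgroup.centralizer ({y} : Set G)) * c⁻¹ :
          Subgroup.centralizer ({y} : Set G)) : G))) * u⁻¹ := by
      intro c o
      have hcy : (c : G) * y = y * c := Subgroup.mem_centralizer_singleton_iff.1 c.2
      simp only [F, Subgroup.coe_mul, Subgroup.coe_inv, mul_inv_rev, ← mul_assoc]
      rw [mul_assoc u (c : G) y, hcy, ← mul_assoc u y]
    have hgu : u * (y * g') * u⁻¹ = g := by rw [hg']; group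
    rw [Nat.card_eq_fintype_card, ← Finset.card_univ]
    symm
    refine Finset.card_bij (fun c _ => (u * (c : G),
      (⟨c⁻¹ * ⟨g', hg'C⟩ * c, by simpa using hOn.conj_mem _ hO c⁻¹⟩ : O))) ?_ ?_ ?_
    · intro c _
      refine Finset.mem_filter.2 ⟨Finset.mem_univ _, ?_⟩
      rw [hFuc]
      simp only [Subgroup.coe_mul, Subgroup.coe_inv, ← mul_assoc, mul_inv_cancel, one_mul,
        mul_inv_cancel_right]
      rw [← hgu, ← mul_assoc]
    · intro c _ c' _ he
      exact Subtype.ext (mul_left_cancel (congrArg Prod.fst he))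
    · rintro ⟨w, o⟩ hv
      have hv' : F (w, o) = g := (Finset.mem_filter.1 hv).2
      have e2 : w * y * w⁻¹ = u * y * u⁻¹ :=
        (H40.isPPart_unique (hv' ▸ hpart (w, o)) hx).trans hu.symm
      have hwC : u⁻¹ * w ∈ Subgroup.centralizer ({y} : Set G) := by
        rw [Subgroup.mem_centralizer_singleton_iff]
        have e3 : w * y = u * y * u⁻¹ * w := by rw [← e2]; group
        rw [mul_assoc, e3]; group
      refine ⟨⟨u⁻¹ * w, hwC⟩, Finset.mem_univ _, ?_⟩
      have e4 := hFuc ⟨u⁻¹ * w, hwC⟩ o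
      rw [show u * (u⁻¹ * w) = w by group, hv', ← hgu] at e4
      have e5 := mul_left_cancel (mul_left_cancel (mul_right_cancel e4))
      refine Prod.ext (by simp) (Subtype.ext ?_)
      dsimp only
      rw [show (⟨g', hg'C⟩ : Subgroup.centralizer ({y} : Set G)) = _ from Subtype.ext e5]
      group
  have hc := Finset.card_eq_sum_card_fiberwise hmaps
  rw [Finset.sum_congr rfl hfib, Finset.sum_const, Finset.card_univ, Fintype.card_prod,
    smul_eq_mul, ← Nat.card_eq_fintype_card, ← Nat.card_eq_fintype_card] at hc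
  have hOc := O.card_mul_index
  rw [hOi] at hOc
  have hpos : 0 < Nat.card O := Nat.card_pos
  rw [← hOc, mul_comm (Nat.card O), ← mul_assoc] at hc
  exact (Nat.eq_of_mul_eq_mul_right hpos hc).symm

/-- `m` is positive. -/
theorem Ctx.pos (h : Ctx P m) : 0 < m := by
  rw [← h.index]
  exact Nat.pos_of_ne_zero Subgroup.index_ne_zero_of_finite

/-- A nontrivial element of `P` has `m` conjugates in `P`. -/
theorem Ctx.card_conj (h : Ctx P m) {y : ↥(P : Subgroup G)} (hy1 : y ≠ 1) :
    Nat.card {z : ↥(P : Subgroup G) // IsConj (y : G) (z : G)} = m := by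
  set N := Subgroup.normalizer ((P : Subgroup G) : Set G)
  set C := Subgroup.centralizer ((P : Subgroup G) : Set G)
  have hy1' : (y : G) ≠ 1 := fun e => hy1 (Subtype.ext e)
  let φ : N → {z : ↥(P : Subgroup G) // IsConj (y : G) (z : G)} := fun n =>
    ⟨⟨(n : G) * y * (n : G)⁻¹, (Subgroup.mem_normalizer_iff.1 n.2 _).1 y.2⟩,
      isConj_iff.2 ⟨(n : G), rfl⟩⟩
  have hφ : ∀ n n' : N, φ n = φ n' ↔ QuotientGroup.leftRel (C.subgroupOf N) n n' := by
    intro n n'
    rw [QuotientGroup.leftRel_apply, Subgroup.mem_subgroupOf, Subgroup.coe_mul, Subgroup.coe_inv]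
    constructor
    · intro e
      have e1 : (n : G) * y * (n : G)⁻¹ = (n' : G) * y * (n' : G)⁻¹ :=
        congrArg (fun z => ((z.1 : ↥(P : Subgroup G)) : G)) e
      refine (h.free _ y.2 hy1').le (Subgroup.mem_inf.2 ⟨?_, mul_mem (inv_mem n.2) n'.2⟩)
      have e2 : (n' : G) * y = n * y * (n : G)⁻¹ * n' := by rw [e1]; group
      refine Subgroup.mem_centralizer_singleton_iff.2 ?_
      rw [mul_assoc, e2]; group
    · intro e
      have e1 : (n : G)⁻¹ * n' * y = y * ((n : G)⁻¹ * n') :=
        ((Subgroup.mem_centralizer_iff.1 e) _ y.2).symm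
      refine Subtype.ext (Subtype.ext ?_)
      show (n : G) * y * (n : G)⁻¹ = (n' : G) * y * (n' : G)⁻¹
      calc (n : G) * y * (n : G)⁻¹ = n * (y * ((n : G)⁻¹ * n')) * (n' : G)⁻¹ := by group
        _ = n * ((n : G)⁻¹ * n' * y) * (n' : G)⁻¹ := by rw [e1]
        _ = (n' : G) * y * (n' : G)⁻¹ := by group
  let ψ : (N ⧸ C.subgroupOf N) → {z : ↥(P : Subgroup G) // IsConj (y : G) (z : G)} :=
    Quotient.lift φ fun a b e => (hφ a b).2 e
  have hb : Function.Bijective ψ := by
    refine ⟨fun a b => ?_, fun z => ?_⟩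
    · induction a using Quotient.inductionOn
      induction b using Quotient.inductionOn
      exact fun e => Quotient.sound ((hφ _ _).1 e)
    · obtain ⟨c, hc⟩ := isConj_iff.1 z.2
      obtain ⟨n, hn, hnc⟩ := H22.abelian_sylow_controls P h.comm (y : G) y.2 c (hc ▸ z.1.2)
      exact ⟨Quotient.mk'' ⟨n, hn⟩, Subtype.ext (Subtype.ext (hnc.trans hc))⟩
  rw [← Nat.card_congr (Equiv.ofBijective ψ hb), ← Subgroup.index_eq_card]
  exact h.index

open scoped Classical in
/-- An element lies in the sections of exactly `m` elements of `P`, all with the same value. -/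
theorem Ctx.sum_ite_section [Fintype G] [Fintype ↥(P : Subgroup G)] (h : Ctx P m)
    {φ : ↥(P : Subgroup G) → ℂ} (hφ : Inv P φ) (h1 : φ 1 = 0) (g : G) :
    (∑ y : ↥(P : Subgroup G), if g ∈ section' p (y : G) then φ y else 0) =
      (m : ℂ) * lift P φ g := by
  obtain ⟨z, x, hx, hxz⟩ := exists_rep P g
  rw [h.lift_eq hφ hx hxz, ← Finset.sum_filter]
  have hfilter : (Finset.univ.filter fun y : ↥(P : Subgroup G) => g ∈ section' p (y : G)) =
      Finset.univ.filter fun y : ↥(P : Subgroup G) => IsConj (z : G) (y : G) := by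
    refine Finset.filter_congr fun y _ => ⟨fun hg => ?_, fun hzy => ?_⟩
    · obtain ⟨x', hx', hxy⟩ := mem_section'.1 hg
      rw [H40.isPPart_unique hx' hx] at hxy
      exact hxz.symm.trans hxy
    · exact mem_section'.2 ⟨x, hx, hxz.trans hzy⟩
  rw [hfilter, Finset.sum_congr rfl fun y hy => h.inv_eq hφ (Finset.mem_filter.1 hy).2,
    Finset.sum_const, nsmul_eq_mul]
  by_cases hz : z = 1
  · rw [hz, h1, mul_zero, mul_zero]
  · rw [← Fintype.card_subtype, ← Nat.card_eq_fintype_card, h.card_conj hz]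

open scoped Classical in
/-- Summation over the non-regular elements, section by section. -/
theorem Ctx.sum_lift [Fintype G] [Fintype ↥(P : Subgroup G)] (h : Ctx P m)
    {φ : ↥(P : Subgroup G) → ℂ} (hφ : Inv P φ) (h1 : φ 1 = 0) :
    (m : ℂ) * (Nat.card P : ℂ) * ∑ g : G, lift P φ g = (Nat.card G : ℂ) * ∑ y, φ y := by
  have hL := h.sum_ite_section hφ h1
  have hS : ∀ y : ↥(P : Subgroup G), (Nat.card P : ℂ) *
      (∑ g : G, if g ∈ section' p (y : G) then φ y else 0) = (Nat.card G : ℂ) * φ y := by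
    intro y
    rw [← Finset.sum_filter, Finset.sum_const, Finset.filter_univ_mem, nsmul_eq_mul, ← mul_assoc]
    by_cases hy : y = 1
    · rw [hy, h1, mul_zero, mul_zero]
    · rw [← Nat.cast_mul, mul_comm (Nat.card P),
        h.card_section y.2 (fun e => hy (Subtype.ext e))]
  calc (m : ℂ) * (Nat.card P : ℂ) * ∑ g : G, lift P φ g
      = (Nat.card P : ℂ) * ∑ g : G, (m : ℂ) * lift P φ g := by rw [← Finset.mul_sum]; ring
    _ = ∑ y : ↥(P : Subgroup G), (Nat.card P : ℂ) *
          (∑ g : G, if g ∈ section' p (y : G) then φ y else 0) := by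
        rw [← Finset.mul_sum (Finset.univ) _ (Nat.card P : ℂ), Finset.sum_comm,
          Finset.sum_congr rfl fun g _ => hL g]
    _ = _ := by rw [Finset.sum_congr rfl fun y _ => hS y, ← Finset.mul_sum]

/-- The inner product of the lift of a function vanishing at `1` with a function which agrees
with a lift off the regular elements. -/
theorem Ctx.classInner_lift [Fintype G] [Fintype ↥(P : Subgroup G)] (h : Ctx P m)
    {f f' : ↥(P : Subgroup G) → ℂ} (hf : Inv P f) (hf' : Inv P f') (h1 : f 1 = 0)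
    {θ : G → ℂ} (hθ : ∀ g : G, p ∣ orderOf g → θ g = lift P f' g) :
    Cfsg.classInner (lift P f) θ =
      ((m : ℂ) * (Nat.card P : ℂ))⁻¹ * ∑ y, f y * conj (f' y) := by
  have hφ : Inv P fun y => f y * conj (f' y) := fun n hn w w' e => by
    simp only [hf n hn w w' e, hf' n hn w w' e]
  have hmul : ∀ g : G, lift P f g * conj (θ g) = lift P (fun y => f y * conj (f' y)) g := by
    intro g
    obtain ⟨y, x, hx, hxy⟩ := exists_rep P g
    by_cases hg : p ∣ orderOf g
    · rw [hθ g hg, h.lift_eq hf hx hxy, h.lift_eq hf' hx hxy, h.lift_eq hφ hx hxy]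
    · rw [h.lift_regular hf hg, h.lift_regular hφ hg, h1, zero_mul, zero_mul]
  have hmP : (m : ℂ) * (Nat.card P : ℂ) ≠ 0 :=
    mul_ne_zero (Nat.cast_ne_zero.2 h.pos.ne') (Nat.cast_ne_zero.2 Nat.card_pos.ne')
  have hG : (Nat.card G : ℂ) ≠ 0 := Nat.cast_ne_zero.2 Nat.card_pos.ne'
  have key := h.sum_lift hφ (by simp only [h1, zero_mul])
  rw [Cfsg.classInner, Finset.sum_congr rfl fun g _ => hmul g, inv_mul_eq_iff_eq_mul₀ hG]
  rw [← mul_assoc, mul_comm (Nat.card G : ℂ), mul_assoc, ← key, ← mul_assoc, inv_mul_cancel₀ hmP,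
    one_mul]

end Cfsg.Agent.H28.Ab
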