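import Mathlib
import Cfsg.Agent.H28.Counting
import Cfsg.Agent.H28.CyclicSylow

/-!
# Brauer–Fowler bounds and the Thompson order formula
-/

namespace Cfsg.Agent.H28

open scoped BigOperators

variable {G : Type*} [Group G]

/-- The centraliser of a non-central element is proper. -/
theorem centralizer_ne_top {x : G} (h : x ∉ Subgroup.center G) :
    Subgroup.centralizer ({x} : Set G) ≠ ⊤ := fun e =>
  h (Subgroup.mem_center_iff.mpr fun g =>
    mem_centralizer_singleton'.mp (e ▸ Subgroup.mem_top g))

/-- A simple group with two non-commuting elements has trivial centre. -/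
theorem center_eq_bot_of_simple [IsSimpleGroup G] (h : ∃ a b : G, a * b ≠ b * a) :
    Subgroup.center G = ⊥ := by
  rcases (inferInstance : (Subgroup.center G).Normal).eq_bot_or_eq_top with e | e
  · exact e
  · obtain ⟨a, b, hab⟩ := h
    exact absurd (Subgroup.mem_center_iff.mp (e ▸ Subgroup.mem_top b) a) hab

/-- The conjugates of an involution are among the involutions. -/
theorem index_centralizer_le_involutions [Finite G] {t : G} (ht : orderOf t = 2) :
    (Subgroup.centralizer ({t} : Set G)).index ≤ Nat.card {u : G // orderOf u = 2} := by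
  rw [← card_isConj_eq_index]
  refine Nat.card_le_card_of_injective (fun u => ⟨u.1, ?_⟩) fun a b h =>
    Subtype.ext (by simpa using congrArg Subtype.val h)
  obtain ⟨g, hg⟩ := isConj_iff.mp u.2
  rw [← hg, orderOf_conj_eq, ht]

/-- A group acting faithfully on the cosets of a proper subgroup: the factorial bound for simple
groups. -/
theorem card_dvd_factorial_index [Finite G] [IsSimpleGroup G] {H : Subgroup G} (hH : H ≠ ⊤) :
    Nat.card G ∣ Nat.factorial H.index := by
  have hcore : H.normalCore = ⊥ := by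
    rcases (inferInstance : H.normalCore.Normal).eq_bot_or_eq_top with e | e
    · exact e
    · exact absurd (top_le_iff.mp (e ▸ H.normalCore_le)) hH
  have hinj : Function.Injective (MulAction.toPermHom G (G ⧸ H)) := by
    rw [← MonoidHom.ker_eq_bot_iff, ← Subgroup.normalCore_eq_ker, hcore]
  have := Subgroup.card_dvd_of_injective _ hinj
  rwa [Nat.card_perm, ← Subgroup.index_eq_card] at this

/-- **Brauer–Fowler**: `|G| ≤ (2|C(t)|²)!` for a simple group `G` with involution `t`. -/
theorem brauer_fowler [Finite G] [IsSimpleGroup G] {t : G} (ht : orderOf t = 2) :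
    Nat.card G ≤
      Nat.factorial (2 * (Nat.card (Subgroup.centralizer ({t} : Set G))) ^ 2) := by
  classical
  haveI := Fintype.ofFinite G
  set C := Nat.card (Subgroup.centralizer ({t} : Set G)) with hC
  by_cases hab : ∀ a b : G, a * b = b * a
  · have htop : Subgroup.centralizer ({t} : Set G) = ⊤ :=
      eq_top_iff.mpr fun g _ => mem_centralizer_singleton'.mpr (hab g t)
    rw [htop, Subgroup.card_top] at hC
    rw [hC]
    refine le_trans ?_ (Nat.self_le_factorial _)
    nlinarith [(Nat.card_pos : 0 < Nat.card G)]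
  simp only [not_forall] at hab
  have hZ := center_eq_bot_of_simple hab
  have htZ : t ∉ Subgroup.center G := by
    rw [hZ, Subgroup.mem_bot]; exact ne_one_of_orderOf_two ht
  obtain ⟨x, hx, hxmax⟩ := Finset.exists_max_image (Finset.univ.erase (1 : G))
    (fun y => Nat.card (Subgroup.centralizer ({y} : Set G)))
    ⟨t, Finset.mem_erase.mpr ⟨ne_one_of_orderOf_two ht, Finset.mem_univ _⟩⟩
  have hx1 : x ≠ 1 := (Finset.mem_erase.mp hx).1
  set D := Subgroup.centralizer ({x} : Set G) with hD
  have hDne : D ≠ ⊤ := centralizer_ne_top (by rw [hZ, Subgroup.mem_bot]; exact hx1)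
  set n := Nat.card {u : G // orderOf u = 2} with hn
  have hsum := sum_pairCount (G := G)
  rw [← Finset.add_sum_erase _ _ (Finset.mem_univ (1 : G)), pairCount_one, ← hn] at hsum
  have hle : ∑ y ∈ Finset.univ.erase (1 : G), pairCount y ≤ Nat.card G * Nat.card D := by
    refine le_trans (Finset.sum_le_card_nsmul _ _ (Nat.card D)
      fun y hy => (pairCount_le_centralizer y).trans (hxmax y hy)) ?_
    rw [smul_eq_mul, Nat.card_eq_fintype_card (α := G)]
    exact Nat.mul_le_mul_right _ (Finset.card_le_univ _)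
  have hidx := D.index_mul_card
  have hgn : Nat.card G ≤ n * C := by
    rw [← (Subgroup.centralizer ({t} : Set G)).index_mul_card]
    exact Nat.mul_le_mul_right _ (index_centralizer_le_involutions ht)
  have hn2 : 2 ≤ n := by
    refine le_trans ?_ (index_centralizer_le_involutions ht)
    have h1 := (Subgroup.centralizer ({t} : Set G)).index_ne_zero_of_finite
    have h2 : (Subgroup.centralizer ({t} : Set G)).index ≠ 1 := fun e =>
      centralizer_ne_top htZ (Subgroup.index_eq_one.mp e)
    omega
  have hkey : D.index * n ^ 2 ≤ 2 * C ^ 2 * n ^ 2 := by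
    have h1 : n ^ 2 ≤ n + Nat.card G * Nat.card D := by omega
    have h2 : n ^ 2 ≤ 2 * (Nat.card G * Nat.card D) := by nlinarith
    calc D.index * n ^ 2 ≤ D.index * (2 * (Nat.card G * Nat.card D)) := Nat.mul_le_mul_left _ h2
      _ = 2 * (Nat.card G * Nat.card G) := by
        nth_rewrite 3 [← hidx]
        ring
      _ ≤ 2 * ((n * C) * (n * C)) := Nat.mul_le_mul_left _ (Nat.mul_le_mul hgn hgn)
      _ = 2 * C ^ 2 * n ^ 2 := by ring
  have hbound : D.index ≤ 2 * C ^ 2 := Nat.le_of_mul_le_mul_right hkey (by positivity)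
  exact le_trans (Nat.le_of_dvd (Nat.factorial_pos _) (card_dvd_factorial_index hDne))
    (Nat.factorial_le hbound)

/-- The extended centraliser of a non-involution real element contains the centraliser with
index two: twice `|C(x)|` divides a subgroup order. -/
theorem exists_two_mul_centralizer [Finite G] {x : G} (hx : x * x ≠ 1) (hreal : IsConj x x⁻¹) :
    ∃ K : Subgroup G, Subgroup.centralizer ({x} : Set G) ≤ K ∧
      Nat.card K = 2 * Nat.card (Subgroup.centralizer ({x} : Set G)) := by
  classical
  let K : Subgroup G :=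
    { carrier := {g | g * x * g⁻¹ = x ∨ g * x * g⁻¹ = x⁻¹}
      one_mem' := Or.inl (by simp)
      mul_mem' := by
        intro a b ha hb
        have e : a * b * x * (a * b)⁻¹ = a * (b * x * b⁻¹) * a⁻¹ := by simp [mul_assoc]
        simp only [Set.mem_ofPred_eq] at *
        rw [e]
        rcases hb with hb | hb <;> rw [hb]
        · exact ha
        · rw [← conj_inv]
          rcases ha with ha | ha <;> rw [ha] <;> simp
      inv_mem' := by
        intro a ha
        simp only [Set.mem_ofPred_eq, inv_inv] at *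
        rcases ha with ha | ha
        · left
          nth_rewrite 1 [← ha]
          simp [mul_assoc]
        · right
          have h : a⁻¹ * x⁻¹ * a = x := by rw [← ha]; simp [mul_assoc]
          have h' := congrArg (·⁻¹) h
          simpa [mul_assoc] using h' }
  refine ⟨K, fun g hg => Or.inl (by rw [mem_centralizer_singleton'.mp hg, mul_inv_cancel_right]), ?_⟩
  have hK : Nat.card K = Nat.card {g : G // g * x * g⁻¹ = x} +
      Nat.card {g : G // g * x * g⁻¹ = x⁻¹} := by
    rw [← Nat.card_sum]
    refine Nat.card_congr (subtypeOrEquiv _ _ ?_)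
    rw [Pi.disjoint_iff]
    intro g
    rw [Prop.disjoint_iff]
    rintro ⟨h1, h2⟩
    rw [h1] at h2
    exact hx (eq_inv_iff_mul_eq_one.mp h2)
  rw [hK, card_inverting_eq x hreal, two_mul]
  congr 1
  exact Nat.card_congr (Equiv.subtypeEquivRight fun g => by
    rw [mem_centralizer_singleton', mul_inv_eq_iff_eq_mul])

/-- The Brauer–Fowler index bound in terms of the number of involutions. -/
theorem exists_index_bound [Finite G] (heven : Even (Nat.card G))
    (hZ : Odd (Nat.card (Subgroup.center G))) :
    ∃ H : Subgroup G, H ≠ ⊤ ∧ (H.index = 2 ∨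
      2 * H.index * (Nat.card {t : G // orderOf t = 2}) ^ 2 <
        Nat.card G * (Nat.card G + Nat.card {t : G // orderOf t = 2})) := by
  classical
  haveI := Fintype.ofFinite G
  set n := Nat.card {t : G // orderOf t = 2} with hn
  set g := Nat.card G with hg
  have hcentre : ∀ x : G, x ≠ 1 → IsConj x x⁻¹ → x ∉ Subgroup.center G := by
    intro x hx hreal hmem
    obtain ⟨a, ha⟩ := isConj_iff.mp hreal
    rw [Subgroup.mem_center_iff.mp hmem a, mul_inv_cancel_right] at ha
    have h2 : orderOf x = 2 := orderOf_two_of_mul_self (eq_inv_iff_mul_eq_one.mp ha) hx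
    have h3 : orderOf (⟨x, hmem⟩ : Subgroup.center G) ∣ Nat.card (Subgroup.center G) :=
      orderOf_dvd_natCard _
    rw [Subgroup.orderOf_mk, h2] at h3
    exact Nat.not_even_iff_odd.mpr hZ (even_iff_two_dvd.mpr h3)
  by_contra hcon
  simp only [not_exists, not_and, not_or, not_lt] at hcon
  -- `2 n² |H:K| ≥ g (g + n)` for all proper subgroups
  have hterm : ∀ x ∈ Finset.univ.erase (1 : G),
      pairCount x * (g * (g + n)) + (if orderOf x = 2 then 2 * (g * (g + n)) else 0) ≤
        g * n ^ 2 + (if orderOf x = 2 then g * n ^ 2 else 0) := by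
    intro x hx
    have hx1 : x ≠ 1 := (Finset.mem_erase.mp hx).1
    by_cases hreal : IsConj x x⁻¹
    swap
    · have h2 : orderOf x ≠ 2 := fun e =>
        hreal (by rw [inv_eq_self_of_orderOf_two e])
      simp [pairCount_eq_zero_of_not_real x hreal, h2]
    set D := Subgroup.centralizer ({x} : Set G)
    have hDne : D ≠ ⊤ := centralizer_ne_top (hcentre x hx1 hreal)
    have hidx := D.index_mul_card
    by_cases h2 : orderOf x = 2
    · rw [if_pos h2, if_pos h2]
      have hp := pairCount_add_two_le x h2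
      have hM := (hcon D hDne).2
      calc pairCount x * (g * (g + n)) + 2 * (g * (g + n))
          = (pairCount x + 2) * (g * (g + n)) := by ring
        _ ≤ Nat.card D * (2 * D.index * n ^ 2) := Nat.mul_le_mul hp hM
        _ = g * n ^ 2 + g * n ^ 2 := by rw [hg, ← hidx]; ring
    · rw [if_neg h2, if_neg h2, add_zero, add_zero]
      have hxx : x * x ≠ 1 := fun e => h2 (orderOf_two_of_mul_self e hx1)
      obtain ⟨K, hDK, hK⟩ := exists_two_mul_centralizer hxx hreal
      have hKidx : K.index * (2 * Nat.card D) = g := by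
        rw [← hK, Subgroup.index_mul_card]
      have hKne : K ≠ ⊤ := by
        intro e
        refine (hcon D hDne).1 ?_
        rw [e, Subgroup.index_top, one_mul, hg, ← hidx] at hKidx
        exact (Nat.eq_of_mul_eq_mul_right Nat.card_pos hKidx).symm
      calc pairCount x * (g * (g + n)) ≤ Nat.card D * (2 * K.index * n ^ 2) :=
            Nat.mul_le_mul (pairCount_le_centralizer x) (hcon K hKne).2
        _ = g * n ^ 2 := by rw [← hKidx]; ring
  have hs := Finset.sum_le_sum hterm
  rw [Finset.sum_add_distrib, Finset.sum_add_distrib, ← Finset.sum_mul, ← Finset.sum_filter,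
    ← Finset.sum_filter, Finset.sum_const, Finset.sum_const, Finset.sum_const, smul_eq_mul,
    smul_eq_mul, smul_eq_mul, Finset.card_erase_of_mem (Finset.mem_univ _), Finset.card_univ,
    ← Nat.card_eq_fintype_card] at hs
  have hfilter : ((Finset.univ.erase (1 : G)).filter fun x => orderOf x = 2).card = n := by
    rw [hn, Nat.card_eq_fintype_card, Fintype.card_subtype]
    congr 1
    ext y
    simp only [Finset.mem_filter, Finset.mem_erase, Finset.mem_univ, and_true, true_and]
    exact ⟨fun h => h.2, fun h => ⟨ne_one_of_orderOf_two h, h⟩⟩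
  rw [hfilter] at hs
  have hsum := sum_pairCount (G := G)
  rw [← Finset.add_sum_erase _ _ (Finset.mem_univ (1 : G)), pairCount_one, ← hn] at hsum
  obtain ⟨S, hS⟩ : ∃ S, ∑ x ∈ Finset.univ.erase (1 : G), pairCount x = S := ⟨_, rfl⟩
  rw [hS] at hs hsum
  obtain ⟨g', hg'⟩ : ∃ g', g = g' + 1 :=
    ⟨g - 1, by have : 0 < g := Nat.card_pos; omega⟩
  rw [← hg, hg'] at hs
  simp only [Nat.add_sub_cancel] at hs
  have hnpos : 0 < n := by
    obtain ⟨u, hu⟩ := exists_prime_orderOf_dvd_card' (G := G) 2 (even_iff_two_dvd.mp heven)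
    haveI : Nonempty {t : G // orderOf t = 2} := ⟨⟨u, hu⟩⟩
    exact Nat.card_pos
  have h3 : (n ^ 2 + n) * ((g' + 1) * (g' + 1 + n)) ≤ (g' + n) * ((g' + 1) * n ^ 2) := by
    calc (n ^ 2 + n) * ((g' + 1) * (g' + 1 + n))
        = S * ((g' + 1) * (g' + 1 + n)) + n * (2 * ((g' + 1) * (g' + 1 + n))) := by
          rw [← hsum]; ring
      _ ≤ g' * ((g' + 1) * n ^ 2) + n * ((g' + 1) * n ^ 2) := hs
      _ = _ := by ring
  have h4 : (n ^ 2 + n) * (g' + 1 + n) ≤ (g' + n) * n ^ 2 :=
    Nat.le_of_mul_le_mul_left (c := g' + 1) (by linarith) (by omega)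
  nlinarith

/-- If an involution `t` is not conjugate to the involution `s`, then `|G| < |C(s)| |C(t)|²`
up to the maximum centraliser order `C`. -/
theorem card_lt_of_two_classes [Finite G] {s t : G} (hs : orderOf s = 2) (ht : orderOf t = 2)
    (hnc : ¬ IsConj s t)
    (hmax : ∀ u : G, orderOf u = 2 → Nat.card (Subgroup.centralizer ({u} : Set G)) ≤
      Nat.card (Subgroup.centralizer ({t} : Set G))) :
    Nat.card G < Nat.card (Subgroup.centralizer ({t} : Set G)) ^ 3 := by
  classical
  haveI := Fintype.ofFinite G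
  set C := Nat.card (Subgroup.centralizer ({t} : Set G)) with hC
  let f : {u : G // IsConj s u} →
      Σ z : {z : G // orderOf z = 2 ∧ Commute z t}, {u : G // orderOf u = 2 ∧ Commute u z.1} :=
    fun u => by
      have hu2 : orderOf u.1 = 2 := by
        obtain ⟨a, ha⟩ := isConj_iff.mp u.2
        rw [← ha, orderOf_conj_eq, hs]
      have heven : Even (orderOf (u.1 * t)) := by
        by_contra h
        rw [Nat.not_even_iff_odd] at h
        obtain ⟨d, -, hd⟩ := exists_conj_of_odd (mul_self_of_orderOf_two hu2)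
          (mul_self_of_orderOf_two ht) h
        exact hnc (u.2.trans (isConj_iff.mpr ⟨d, hd⟩))
      have h := central_involution_of_even (mul_self_of_orderOf_two hu2)
        (mul_self_of_orderOf_two ht) heven
      exact ⟨⟨_, h.1, h.2.2⟩, ⟨u.1, hu2, h.2.1.symm⟩⟩
  have hinj : Function.Injective f := fun a b h => by
    exact Subtype.ext (congrArg (fun w : Σ z : {z : G // orderOf z = 2 ∧ Commute z t},
      {u : G // orderOf u = 2 ∧ Commute u z.1} => w.2.1) h)
  have h1 := Nat.card_le_card_of_injective f hinj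
  rw [Nat.card_sigma] at h1
  have h2 : ∀ z : {z : G // orderOf z = 2 ∧ Commute z t},
      Nat.card {u : G // orderOf u = 2 ∧ Commute u z.1} ≤ C - 1 := by
    intro z
    have := card_commuting_involutions_succ_le z.1
    have := hmax z.1 z.2.1
    omega
  have h3 : Nat.card {u : G // IsConj s u} ≤ (C - 1) * (C - 1) := by
    refine h1.trans ((Finset.sum_le_card_nsmul _ _ _ fun z _ => h2 z).trans ?_)
    rw [smul_eq_mul, Finset.card_univ, ← Nat.card_eq_fintype_card]
    refine Nat.mul_le_mul_right _ ?_
    have := card_commuting_involutions_succ_le t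
    omega
  rw [← card_isConj_mul_card_centralizer s]
  have hC1 : 1 ≤ C := Nat.card_pos
  calc _ ≤ (C - 1) * (C - 1) * C := Nat.mul_le_mul h3 (hmax s hs)
    _ < C * C * C := by
      refine Nat.mul_lt_mul_of_pos_right ?_ hC1
      exact Nat.mul_lt_mul_of_lt_of_lt (by omega) (by omega)
    _ = C ^ 3 := by ring

/-- The unique involution in a cyclic group of even order. -/
theorem eq_pow_half_of_mem_zpowers [Finite G] {w z : G} (hz : z ∈ Subgroup.zpowers w)
    (hz2 : orderOf z = 2) : z = w ^ (orderOf w / 2) := by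
  obtain ⟨k, rfl⟩ := ((isOfFinOrder_of_finite w).mem_powers_iff_mem_zpowers).mpr hz
  have h0 : w ^ (2 * k) = 1 := by
    rw [two_mul, pow_add]; exact mul_self_of_orderOf_two hz2
  have h1 : ¬ orderOf w ∣ k := fun h =>
    ne_one_of_orderOf_two hz2 (orderOf_dvd_iff_pow_eq_one.mp h)
  obtain ⟨q, hq⟩ := orderOf_dvd_of_pow_eq_one h0
  rcases Nat.even_or_odd q with ⟨m, hm⟩ | ⟨m, hm⟩
  · exact absurd ⟨m, by rw [hm] at hq; linarith⟩ h1
  · show w ^ k = w ^ (orderOf w / 2)
    have h2 : k = orderOf w / 2 + orderOf w * m := by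
      rw [hm] at hq
      have : Even (orderOf w) := by
        rcases Nat.even_or_odd (orderOf w) with h | ⟨a, ha⟩
        · exact h
        · exfalso
          have he : Even (orderOf w * (2 * m + 1)) := hq ▸ even_two_mul k
          exact Nat.not_even_iff_odd.mpr (Odd.mul ⟨a, ha⟩ ⟨m, rfl⟩) he
      obtain ⟨a, ha⟩ := this
      rw [ha] at hq ⊢
      rw [show (a + a) / 2 = a by omega]
      linarith
    rw [h2, pow_add, pow_mul, pow_orderOf_eq_one, one_pow, mul_one]

/-- The **Thompson order formula** for two classes of involutions. -/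
theorem thompson_order_formula [Finite G] {x₁ x₂ : G} (h₁ : orderOf x₁ = 2) (h₂ : orderOf x₂ = 2)
    (hnc : ¬ IsConj x₁ x₂) (hall : ∀ t : G, orderOf t = 2 → IsConj x₁ t ∨ IsConj x₂ t) :
    Nat.card G = Nat.card (Subgroup.centralizer ({x₂} : Set G)) *
        Nat.card {p : G × G // IsConj x₁ p.1 ∧ IsConj x₂ p.2 ∧ x₁ ∈ Subgroup.zpowers (p.1 * p.2)} +
      Nat.card (Subgroup.centralizer ({x₁} : Set G)) *
        Nat.card {p : G × G // IsConj x₁ p.1 ∧ IsConj x₂ p.2 ∧ x₂ ∈ Subgroup.zpowers (p.1 * p.2)} := by
  classical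
  haveI := Fintype.ofFinite G
  let F : G → ℕ := fun z =>
    Nat.card {p : G × G // IsConj x₁ p.1 ∧ IsConj x₂ p.2 ∧ z ∈ Subgroup.zpowers (p.1 * p.2)}
  have hFconj : ∀ a b : G, IsConj a b → F b = F a := by
    intro a b hab
    obtain ⟨d, rfl⟩ := isConj_iff.mp hab
    refine (Nat.card_congr (((MulAut.conj d).toEquiv.prodCongr
      (MulAut.conj d).toEquiv).subtypeEquiv fun p => ?_)).symm
    have hc : ∀ u v : G, IsConj u v ↔ IsConj u (d * v * d⁻¹) := fun u v =>
      ⟨fun h => h.trans (isConj_iff.mpr ⟨d, rfl⟩),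
        fun h => h.trans (isConj_iff.mpr ⟨d⁻¹, by simp [mul_assoc]⟩)⟩
    simp only [Equiv.prodCongr_apply, Prod.map_fst, Prod.map_snd, MulEquiv.toEquiv_eq_coe,
      EquivLike.coe_coe, MulAut.conj_apply]
    rw [← hc, ← hc, show d * p.1 * d⁻¹ * (d * p.2 * d⁻¹) = MulAut.conj d (p.1 * p.2) by simp]
    refine and_congr Iff.rfl (and_congr Iff.rfl ?_)
    rw [show d * a * d⁻¹ = MulAut.conj d a from rfl, ← MulEquiv.coe_toMonoidHom,
      ← MonoidHom.map_zpowers, Subgroup.mem_map_iff_mem]
    exact (MulAut.conj d).injective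
  -- total count of pairs
  have hpart : Nat.card {u : G // IsConj x₁ u} * Nat.card {v : G // IsConj x₂ v} =
      ∑ z : {z : G // orderOf z = 2}, F z.1 := by
    simp only [F]
    rw [← Nat.card_prod, ← Nat.card_sigma]
    have key : ∀ u v : G, IsConj x₁ u → IsConj x₂ v →
        orderOf ((u * v) ^ (orderOf (u * v) / 2)) = 2 := by
      intro u v hu hv
      have hu2 : orderOf u = 2 := by
        obtain ⟨a, ha⟩ := isConj_iff.mp hu
        rw [← ha, orderOf_conj_eq, h₁]
      have hv2 : orderOf v = 2 := by
        obtain ⟨a, ha⟩ := isConj_iff.mp hv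
        rw [← ha, orderOf_conj_eq, h₂]
      refine (central_involution_of_even (mul_self_of_orderOf_two hu2)
        (mul_self_of_orderOf_two hv2) ?_).1
      by_contra h
      rw [Nat.not_even_iff_odd] at h
      obtain ⟨d, -, hd⟩ := exists_conj_of_odd (mul_self_of_orderOf_two hu2)
        (mul_self_of_orderOf_two hv2) h
      exact hnc ((hu.trans (isConj_iff.mpr ⟨d, hd⟩)).trans hv.symm)
    refine Nat.card_congr
      ⟨fun q => ⟨⟨(q.1.1 * q.2.1) ^ (orderOf (q.1.1 * q.2.1) / 2),
          key _ _ q.1.2 q.2.2⟩, ⟨(q.1.1, q.2.1), q.1.2, q.2.2,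
          pow_mem (Subgroup.mem_zpowers _) _⟩⟩,
        fun r => (⟨r.2.1.1, r.2.2.1⟩, ⟨r.2.1.2, r.2.2.2.1⟩), fun q => rfl, ?_⟩
    rintro ⟨⟨z, hz⟩, ⟨u, v⟩, hu, hv, hmem⟩
    have := eq_pow_half_of_mem_zpowers hmem hz
    subst this
    rfl
  have hsplit : ∑ z : {z : G // orderOf z = 2}, F z.1 =
      Nat.card {u : G // IsConj x₁ u} * F x₁ + Nat.card {v : G // IsConj x₂ v} * F x₂ := by
    rw [← Finset.sum_subtype (Finset.univ.filter fun z : G => orderOf z = 2)
      (fun z => by simp) F]
    have hset : (Finset.univ.filter fun z : G => orderOf z = 2) =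
        (Finset.univ.filter (IsConj x₁)) ∪ (Finset.univ.filter (IsConj x₂)) := by
      ext z
      simp only [Finset.mem_filter, Finset.mem_univ, true_and, Finset.mem_union]
      refine ⟨hall z, ?_⟩
      rintro (h | h) <;> obtain ⟨a, ha⟩ := isConj_iff.mp h <;>
        rw [← ha, orderOf_conj_eq] <;> assumption
    rw [hset, Finset.sum_union, Finset.sum_congr rfl (fun z hz => hFconj x₁ z (by simpa using hz)),
      Finset.sum_congr (s₂ := Finset.univ.filter (IsConj x₂)) rfl
        (fun z hz => hFconj x₂ z (by simpa using hz)),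
      Finset.sum_const, Finset.sum_const, smul_eq_mul, smul_eq_mul, Nat.card_eq_fintype_card,
      Nat.card_eq_fintype_card, Fintype.card_subtype, Fintype.card_subtype]
    rw [Finset.disjoint_left]
    intro z hz hz'
    simp only [Finset.mem_filter, Finset.mem_univ, true_and] at hz hz'
    exact hnc (hz.trans hz'.symm)
  rw [hsplit] at hpart
  have e₁ := card_isConj_mul_card_centralizer x₁
  have e₂ := card_isConj_mul_card_centralizer x₂
  have hg : 0 < Nat.card G := Nat.card_pos
  refine Nat.eq_of_mul_eq_mul_left hg ?_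
  calc Nat.card G * Nat.card G
      = (Nat.card {u : G // IsConj x₁ u} * Nat.card {v : G // IsConj x₂ v}) *
          (Nat.card (Subgroup.centralizer ({x₁} : Set G)) *
            Nat.card (Subgroup.centralizer ({x₂} : Set G))) := by
        nth_rewrite 1 [← e₁]; rw [← e₂]; ring
    _ = (Nat.card {u : G // IsConj x₁ u} * Nat.card (Subgroup.centralizer ({x₁} : Set G))) *
          (Nat.card (Subgroup.centralizer ({x₂} : Set G)) * F x₁) +
        (Nat.card {v : G // IsConj x₂ v} * Nat.card (Subgroup.centralizer ({x₂} : Set G))) *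
          (Nat.card (Subgroup.centralizer ({x₁} : Set G)) * F x₂) := by
        rw [hpart]; ring
    _ = _ := by rw [e₁, e₂]; ring

end Cfsg.Agent.H28
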