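import Cfsg.Agent.H28.AbelianExceptional
import Cfsg.Agent.H42.ClassMult
import Cfsg.Agent.H43.CharKer
import Cfsg.Agent.S0943
import Cfsg.Agent.S0944

/-!
# Abelian Sylow subgroup with automiser of order three
-/

set_option autoImplicit false
set_option linter.unusedSectionVars false

open scoped ComplexConjugate

namespace Cfsg.Agent.H28.Ab

variable {G : Type*} [Group G] [Finite G] {p : ℕ} [Fact p.Prime] {P : Sylow p G} {m r : ℕ}
  {M : Ideal Cfsg.AlgInt}

/-- The integer argument behind the signs of the degrees. -/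
theorem one_negative_false {b2 b3 b4 u2 u3 u4 : ℤ} (hb : 1 + b2 + b3 + b4 = 0) (h2 : 0 < b2)
    (h3 : 0 < b3) (hu : u2 + u3 + u4 = 0) (hu2 : u2 ≠ 0)
    (hE : u2 ^ 2 * (b3 * b4) + u3 ^ 2 * (b2 * b4) + u4 ^ 2 * (b2 * b3) = 0) : False := by
  have e4 : u4 = -(u2 + u3) := by linarith
  have f4 : b4 = -(1 + b2 + b3) := by linarith
  subst e4 f4
  nlinarith [sq_nonneg (b3 * u2 - b2 * u3), mul_pos h3 (mul_self_pos.2 hu2),
    mul_nonneg h2.le (sq_nonneg u3)]

/-- Exactly two of three degrees carry the negative sign, and their product is a square. -/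
theorem signs_and_square {b2 b3 b4 c2 c3 c4 : ℤ} (hb : 1 + b2 + b3 + b4 = 0)
    (hc : 1 + c2 + c3 + c4 = 0) (h2 : b2 ≠ 0) (h3 : b3 ≠ 0) (h4 : b4 ≠ 0) (u2 : c2 ≠ b2)
    (u3 : c3 ≠ b3)
    (hE : b2 * b3 * b4 + c2 ^ 2 * (b3 * b4) + c3 ^ 2 * (b2 * b4) + c4 ^ 2 * (b2 * b3) = 0)
    (u4 : c4 ≠ b4) :
    ((b2 < 0 ∧ b3 < 0 ∧ 0 < b4) ∨ (b2 < 0 ∧ 0 < b3 ∧ b4 < 0) ∨ (0 < b2 ∧ b3 < 0 ∧ b4 < 0)) ∧
      ∃ k : ℤ, b2 * b3 * b4 = k * k := by
  have hu : (c2 - b2) + (c3 - b3) + (c4 - b4) = 0 := by linarith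
  have hE' : (c2 - b2) ^ 2 * (b3 * b4) + (c3 - b3) ^ 2 * (b2 * b4) +
      (c4 - b4) ^ 2 * (b2 * b3) = 0 := by
    linear_combination hE - 2 * (b2 * b3 * b4) * hc + (b2 * b3 * b4) * hb
  refine ⟨?_, ?_⟩
  · rcases lt_or_gt_of_ne h2 with s2 | s2 <;> rcases lt_or_gt_of_ne h3 with s3 | s3 <;>
      rcases lt_or_gt_of_ne h4 with s4 | s4
    · exfalso
      have e1 := mul_pos (mul_self_pos.2 (sub_ne_zero.2 u2)) (mul_pos_of_neg_of_neg s3 s4)
      have e2 := mul_nonneg (sq_nonneg (c3 - b3)) (mul_pos_of_neg_of_neg s2 s4).le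
      have e3 := mul_nonneg (sq_nonneg (c4 - b4)) (mul_pos_of_neg_of_neg s2 s3).le
      nlinarith
    · exact Or.inl ⟨s2, s3, s4⟩
    · exact Or.inr (Or.inl ⟨s2, s3, s4⟩)
    · exact (one_negative_false (b2 := b3) (b3 := b4) (b4 := b2) (u2 := c3 - b3) (u3 := c4 - b4)
        (u4 := c2 - b2) (by linarith) s3 s4 (by linarith) (sub_ne_zero.2 u3)
        (by linear_combination hE')).elim
    · exact Or.inr (Or.inr ⟨s2, s3, s4⟩)
    · exact (one_negative_false (b2 := b2) (b3 := b4) (b4 := b3) (u2 := c2 - b2) (u3 := c4 - b4)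
        (u4 := c3 - b3) (by linarith) s2 s4 (by linarith) (sub_ne_zero.2 u2)
        (by linear_combination hE')).elim
    · exact (one_negative_false hb s2 s3 hu (sub_ne_zero.2 u2) hE').elim
    · exfalso; linarith
  · set v2 := c2 - b2
    set v3 := c3 - b3
    have hv4 : c4 - b4 = -(v2 + v3) := by linarith
    rw [hv4] at hE'
    set K := b3 * (b2 + b4) * v2 + b2 * b3 * v3
    have hK : K ^ 2 = b2 * b3 * b4 * v3 ^ 2 := by
      simp only [K]
      linear_combination (b3 * (b2 + b4)) * hE' - v3 ^ 2 * b2 * b3 * b4 * hb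
    obtain ⟨k, hk⟩ : v3 ∣ K := (Int.pow_dvd_pow_iff two_ne_zero).1 ⟨b2 * b3 * b4, by rw [hK]; ring⟩
    refine ⟨k, mul_right_cancel₀ (pow_ne_zero 2 (sub_ne_zero.2 u3)) ?_⟩
    rw [← hK, hk]; ring

/-- The exceptional decomposition with vanishing constant, for an automiser of order three. -/
theorem Ctx.exists_exc_three [Fintype G] (h : Ctx P 3) (hM : Cfsg.IsPModular p M)
    (hm : 3 + 1 < Nat.card P) :
    ∃ r, ∃ E : Exc M P 3 r, E.d = 0 ∧ E.X.card = 3 ∧ ∀ χ ∈ E.X, E.a χ = 1 ∨ E.a χ = -1 := by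
  classical
  obtain ⟨r, ⟨E⟩⟩ := h.exists_exc hM hm
  suffices hex : ∃ r, ∃ E : Exc M P 3 r, E.d = 0 by
    obtain ⟨r, E, hd⟩ := hex
    refine ⟨r, E, hd, ?_⟩
    have hn := E.norm
    rw [hd, ← Finset.add_sum_erase _ _ E.one_mem, E.a_one] at hn
    have hsq : ∀ χ ∈ E.X.erase (H26.oneIrr G), (1 : ℤ) ≤ E.a χ ^ 2 := fun χ hχ => by
      nlinarith [Int.one_le_abs (E.a_ne χ (Finset.mem_of_mem_erase hχ)), sq_abs (E.a χ)]
    have hsum : ∑ χ ∈ E.X.erase (H26.oneIrr G), E.a χ ^ 2 = 2 := by norm_num at hn; linarith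
    have hunit : ∀ χ ∈ E.X.erase (H26.oneIrr G), E.a χ = 1 ∨ E.a χ = -1 := by
      intro χ hχ
      have h1 := Finset.single_le_sum (fun c hc => zero_le_one.trans (hsq c hc)) hχ
      rw [hsum] at h1
      have h2 : E.a χ ≠ 0 := E.a_ne χ (Finset.mem_of_mem_erase hχ)
      have h3 : -1 ≤ E.a χ ∧ E.a χ ≤ 1 := ⟨by nlinarith, by nlinarith⟩
      omega
    refine ⟨?_, fun χ hχ => ?_⟩
    · have h1 : ((E.X.erase (H26.oneIrr G)).card : ℤ) = 2 := by
        rw [← hsum, Finset.sum_congr rfl fun χ hχ => show E.a χ ^ 2 = 1 by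
          rcases hunit χ hχ with e | e <;> simp [e]]
        simp
      have h2 := Finset.card_erase_add_one E.one_mem
      omega
    · by_cases h1 : χ = H26.oneIrr G
      · exact Or.inl (h1 ▸ E.a_one)
      · exact hunit χ (Finset.mem_erase.2 ⟨h1, hχ⟩)
  by_cases hd : E.d = 0
  · exact ⟨r, E, hd⟩
  have hn := E.norm
  push_cast at hn
  have hA : 1 ≤ ∑ χ ∈ E.X, E.a χ ^ 2 := by
    refine le_trans ?_ (Finset.single_le_sum (fun c _ => sq_nonneg (E.a c)) E.one_mem)
    simp [E.a_one]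
  have hr2 : (2 : ℤ) ≤ r := by exact_mod_cast E.two_le
  obtain ⟨hde, hr4⟩ : E.d = E.e ∧ r ≤ 4 := by
    have h1 : E.d * E.d ≥ 1 := by nlinarith [Int.one_le_abs hd, abs_mul_abs_self E.d]
    have h3 : (2 : ℤ) * E.d ^ 2 ≤ r * E.d ^ 2 := mul_le_mul_of_nonneg_right hr2 (sq_nonneg _)
    rcases E.e_unit with he | he <;> rw [he] at hn ⊢
    · have h4 : E.d ≤ 1 := by nlinarith
      have h5 : 0 ≤ E.d := by nlinarith
      have h6 : E.d = 1 := by omega
      rw [h6] at hn
      exact ⟨h6, by omega⟩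
    · have h4 : -1 ≤ E.d := by nlinarith
      have h5 : E.d ≤ 0 := by nlinarith
      have h6 : E.d = -1 := by omega
      rw [h6] at hn
      exact ⟨h6, by omega⟩
  have hd2 : E.d ^ 2 = 1 := by rcases E.e_unit with he | he <;> rw [hde, he] <;> norm_num
  have hde' : E.d * E.e = 1 := by rcases E.e_unit with he | he <;> rw [hde, he] <;> norm_num
  have hAr : ∑ χ ∈ E.X, E.a χ ^ 2 = 5 - (r : ℤ) := by
    linear_combination hn - (r : ℤ) * hd2 + 2 * hde'
  have hr : r = 2 := by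
    by_contra hne
    have := E.two_le
    obtain rfl | rfl : r = 3 ∨ r = 4 := by omega
    · obtain ⟨k, hk⟩ := IsPGroup.iff_card.1 P.2
      rw [← E.card] at hk
      have h2 := Nat.prime_two.dvd_of_dvd_pow (show 2 ∣ p ^ k by rw [← hk]; norm_num)
      have h5 := (show Nat.Prime 5 by norm_num).dvd_of_dvd_pow
        (show 5 ∣ p ^ k by rw [← hk]; norm_num)
      have e2 := (Nat.prime_dvd_prime_iff_eq Nat.prime_two Fact.out).1 h2
      have e5 := (Nat.prime_dvd_prime_iff_eq (show Nat.Prime 5 by norm_num) Fact.out).1 h5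
      omega
    · have hX : E.X = {H26.oneIrr G} := by
        refine Finset.eq_singleton_iff_unique_mem.2 ⟨E.one_mem, fun χ hχ => ?_⟩
        by_contra h1
        have h2 := Finset.sum_le_sum_of_subset_of_nonneg
          (show ({H26.oneIrr G, χ} : Finset _) ⊆ E.X by
            intro c hc; simp at hc; rcases hc with rfl | rfl <;> [exact E.one_mem; exact hχ])
          (fun c _ _ => sq_nonneg (E.a c))
        rw [Finset.sum_pair (Ne.symm h1), E.a_one, hAr] at h2
        have h3 := E.a_ne χ hχ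
        have h4 : 1 ≤ E.a χ ^ 2 := by nlinarith [Int.one_le_abs h3, sq_abs (E.a χ)]
        have h5 : E.a χ ^ 2 ≤ 0 := by push_cast at h2; linarith
        linarith
      have h1 := E.rel ⟨0, by omega⟩ 1 (by simp [(Fact.out : p.Prime).ne_one])
      rw [hX, Finset.sum_singleton, E.a_one, H26.oneIrr_val, hde, H42.irr_one_eq] at h1
      set n := Cfsg.charDegree (E.mu ⟨0, by omega⟩ : G → ℂ)
      have h2 : ((4 : ℤ) * E.e - E.e) * (n : ℤ) + 1 = 0 := by
        apply Int.cast_injective (α := ℂ)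
        push_cast at h1 ⊢
        linear_combination h1
      rcases E.e_unit with he | he <;> rw [he] at h2 <;> omega
  subst hr
  refine ⟨2, ⟨E.R, E.mu ∘ Equiv.swap 0 1, E.X, E.a, 0, -E.e, ?_, E.two_le, E.card,
    E.mu_inj.comp (Equiv.injective _), ?_, fun i => E.notMem _, E.one_mem, E.a_ne, E.a_one, E.val_X,
    ?_, ?_, fun i j g hg => E.reg _ _ g hg, ?_⟩, rfl⟩
  · rcases E.e_unit with he | he <;> simp [he]
  · rw [E.block, (Equiv.swap (0 : Fin 2) 1).surjective.range_comp]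
  · intro i y hy
    have hs := h.sum_reps_psi E.R hy
    rw [Fin.sum_univ_two] at hs
    have h1 := E.val_mu (Equiv.swap 0 1 i) y hy
    rw [Function.comp_apply, h1, hde]
    fin_cases i <;> simp at hs ⊢ <;> linear_combination (E.e : ℂ) * hs
  · rw [hAr]; norm_num
  · intro i g hg
    have h1 := E.rel (Equiv.swap 0 1 i) g hg
    rw [hde] at h1
    rw [Function.comp_apply]
    push_cast at h1 ⊢
    linear_combination h1

/-- Elements of `P` whose square is nontrivial are not conjugate to their inverses. -/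
theorem Ctx.not_isConj_inv (h : Ctx P 3) {y : ↥(P : Subgroup G)} (hy : y * y ≠ 1) :
    ¬ IsConj (y : G) (y : G)⁻¹ := by
  intro hc
  obtain ⟨c, hc⟩ := isConj_iff.1 hc
  obtain ⟨n, hn, hnc⟩ := H22.abelian_sylow_controls P h.comm (y : G) y.2 c
    (hc ▸ (P : Subgroup G).inv_mem y.2)
  rw [hc] at hnc
  set N := Subgroup.normalizer ((P : Subgroup G) : Set G) with hN
  set C := Subgroup.centralizer ((P : Subgroup G) : Set G) with hC
  have hy' : (y : G) ≠ 1 := fun e => hy (Subtype.ext (by simp [e]))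
  have hinv : n * (y : G)⁻¹ * n⁻¹ = y := by
    conv_rhs => rw [← inv_inv (y : G), ← hnc]
    group
  have h2 : n * n ∈ C := by
    refine (h.free _ y.2 hy').le (Subgroup.mem_inf.2 ⟨?_, mul_mem hn hn⟩)
    rw [Subgroup.mem_centralizer_singleton_iff]
    calc n * n * y = n * (n * y * n⁻¹) * n := by group
      _ = n * (y : G)⁻¹ * n := by rw [hnc]
      _ = (n * (y : G)⁻¹ * n⁻¹) * (n * n) := by group
      _ = y * (n * n) := by rw [hinv]
  haveI : (C.subgroupOf N).Normal := by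
    rw [hC, hN, ← Subgroup.normalizerMonoidHom_ker]
    infer_instance
  have h3 : (⟨n, hn⟩ : N) ^ 3 ∈ C.subgroupOf N := by
    rw [← h.index]
    exact Subgroup.pow_index_mem _ _
  have h3' : n ^ 3 ∈ C := by simpa [Subgroup.mem_subgroupOf] using h3
  have hnC : n ∈ C := by
    have := mul_mem (inv_mem h2) h3'
    simpa [pow_succ, mul_assoc] using this
  have e := Subgroup.mem_centralizer_iff.1 hnC _ y.2
  rw [← e, mul_inv_cancel_right] at hnc
  refine hy (Subtype.ext ?_)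
  show (y : G) * y = 1
  nth_rewrite 2 [hnc]
  exact mul_inv_cancel _

/-- Products of two conjugates of an involution avoid sections of non-real elements. -/
theorem Ctx.involution_sum [Fintype G] (h : Ctx P m) (hM : Cfsg.IsPModular p M)
    (E : Exc M P m r) {t : G} (ht : orderOf t = 2) {y : ↥(P : Subgroup G)} (hy : y ≠ 1)
    (hreal : ¬ IsConj (y : G) (y : G)⁻¹) :
    ∑ χ ∈ E.X, χ.1 t * χ.1 t / χ.1 1 * χ.1 (y : G) +
      ∑ i, (E.mu i).1 t * (E.mu i).1 t / (E.mu i).1 1 * (E.mu i).1 (y : G) = 0 := by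
  classical
  have htinv : t⁻¹ = t := by
    rw [inv_eq_iff_mul_eq_one, ← sq, ← ht, pow_orderOf_eq_one]
  have hzero : ∀ g ∈ section' p (y : G), H42.pairCount t t g = 0 := by
    intro g hg
    obtain ⟨x₀, hx₀, hxy⟩ := mem_section'.1 hg
    rw [H42.pairCount, Nat.card_eq_zero]
    refine Or.inl ⟨fun v => ?_⟩
    obtain ⟨x, hxt, hu⟩ := v
    have hxinv : x⁻¹ = x := by
      obtain ⟨a, rfl⟩ := isConj_iff.1 hxt.symm
      simp [htinv, mul_assoc]
    have huinv : (x⁻¹ * g)⁻¹ = x⁻¹ * g := by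
      obtain ⟨a, ha⟩ := isConj_iff.1 hu.symm
      rw [← ha]; simp [htinv, mul_assoc]
    have hconj : x * g * x⁻¹ = g⁻¹ := by
      rw [mul_inv_rev, inv_inv, hxinv] at huinv
      have e : g⁻¹ = x * g * x⁻¹ := by rw [← huinv]; group
      exact e.symm
    obtain ⟨z, hz, hcz, ⟨j, hj⟩, hzr⟩ := id hx₀
    have hinvpart : Cfsg.IsPPart p g⁻¹ x₀⁻¹ :=
      ⟨z⁻¹, by rw [← hz, hcz.eq, mul_inv_rev], hcz.inv_inv, ⟨j, by rw [orderOf_inv, hj]⟩,
        by rwa [orderOf_inv]⟩
    have e := H40.isPPart_conj x hx₀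
    rw [hconj] at e
    have e2 : IsConj x₀ x₀⁻¹ := isConj_iff.2 ⟨x, H40.isPPart_unique e hinvpart⟩
    obtain ⟨b, hb⟩ := isConj_iff.1 hxy
    refine hreal (hxy.symm.trans (e2.trans (isConj_iff.2 ⟨b, ?_⟩)))
    rw [← hb]; group
  have hidx : ((Subgroup.centralizer ({t} : Set G)).index : ℂ) ≠ 0 :=
    Nat.cast_ne_zero.2 Subgroup.index_ne_zero_of_finite
  have hG : (Nat.card G : ℂ) ≠ 0 := Nat.cast_ne_zero.2 Nat.card_pos.ne'
  have hg0 : ∀ g ∈ section' p (y : G),
      ∑ χ : Cfsg.IrrCharacter G, χ.1 t * χ.1 t / χ.1 1 * χ.1 g = 0 := by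
    intro g hg
    have h1 := H42.pairCount_formula t t g
    rw [hzero g hg, Nat.cast_zero, eq_comm] at h1
    have h2 := (mul_eq_zero.1 h1).resolve_left
      (mul_ne_zero (mul_ne_zero hidx hidx) (inv_ne_zero hG))
    rw [← h2]
    refine Finset.sum_congr rfl fun χ _ => ?_
    rw [← H26.irr_inv, htinv]
    ring
  have h3 := Finset.sum_eq_zero hg0
  rw [Finset.sum_comm] at h3
  simp only [← Finset.mul_sum] at h3
  rw [← Finset.sum_filter_add_sum_filter_not Finset.univ (· ∈ Cfsg.principalBlock M G),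
    Finset.sum_eq_zero (s := Finset.univ.filter (fun χ => ¬ χ ∈ Cfsg.principalBlock M G))
      fun χ hχ => by rw [h.sum_section_eq_zero hM (Finset.mem_filter.1 hχ).2 hy, mul_zero],
    add_zero] at h3
  have h4 : ∀ χ ∈ Finset.univ.filter (· ∈ Cfsg.principalBlock M G),
      χ.1 t * χ.1 t / χ.1 1 * ∑ g ∈ section' p (y : G), χ.1 g =
        ((section' p (y : G)).card : ℂ) * (χ.1 t * χ.1 t / χ.1 1 * χ.1 (y : G)) := by
    intro χ hχ
    rw [Finset.sum_congr rfl fun g hg => (by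
      obtain ⟨x, hx, hxy⟩ := mem_section'.1 hg
      exact h.block_value hM (Finset.mem_filter.1 hχ).2 hy hx hxy :
        χ.1 g = χ.1 (y : G)), Finset.sum_const, nsmul_eq_mul]
    ring
  rw [Finset.sum_congr rfl h4, ← Finset.mul_sum, E.sum_block] at h3
  refine (mul_eq_zero.1 h3).resolve_left (Nat.cast_ne_zero.2 ?_)
  exact Finset.card_ne_zero.2
    ⟨(y : G), mem_section'.2 ⟨_, isPPart_self y, IsConj.refl _⟩⟩

/-- The restriction to `P` of a block member gives a congruence for its degree. -/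
theorem Exc.degree_congr (E : Exc M P m r) {χ : Cfsg.IrrCharacter G} (hχ : χ ∈ E.X) :
    (Nat.card P : ℤ) ∣ (Cfsg.charDegree (χ : G → ℂ) : ℤ) - E.a χ := by
  classical
  haveI := Fintype.ofFinite ↥(P : Subgroup G)
  obtain ⟨z, hz⟩ := exists_int_coeff (res_gen (P := P) χ) 1
  refine ⟨z - E.a χ, Int.cast_injective (α := ℂ) ?_⟩
  rw [inv_mul_eq_iff_eq_mul₀ (Nat.cast_ne_zero.2 Nat.card_pos.ne'),
    ← Finset.add_sum_erase _ _ (Finset.mem_univ (1 : ↥(P : Subgroup G))),
    Finset.sum_congr rfl fun y hy => by rw [res, E.val_X χ hχ y (Finset.mem_erase.1 hy).1,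
      MonoidHom.one_apply, Units.val_one, map_one, mul_one],
    Finset.sum_const, Finset.card_erase_of_mem (Finset.mem_univ _), Finset.card_univ,
    ← Nat.card_eq_fintype_card, nsmul_eq_mul, Nat.cast_sub Nat.card_pos] at hz
  simp only [res, OneMemClass.coe_one, H42.irr_one_eq, MonoidHom.one_apply, Units.val_one, map_one,
    mul_one, Nat.cast_one] at hz
  push_cast
  linear_combination hz

/-- The degree of an exceptional character modulo the order of `P`. -/
theorem Exc.degree_congr_mu (E : Exc M P m r) (h : Ctx P m) (hd : E.d = 0) (i : Fin r) :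
    (Nat.card P : ℤ) ∣ (Cfsg.charDegree (E.mu i : G → ℂ) : ℤ) - (m : ℤ) * E.e := by
  classical
  haveI := Fintype.ofFinite ↥(P : Subgroup G)
  obtain ⟨z, hz⟩ := exists_int_coeff (res_gen (P := P) (E.mu i)) 1
  refine ⟨z, Int.cast_injective (α := ℂ) ?_⟩
  rw [inv_mul_eq_iff_eq_mul₀ (Nat.cast_ne_zero.2 Nat.card_pos.ne'),
    ← Finset.add_sum_erase _ _ (Finset.mem_univ (1 : ↥(P : Subgroup G))),
    Finset.sum_congr rfl fun y hy => by rw [res, E.val_mu i y (Finset.mem_erase.1 hy).1, hd,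
      Int.cast_zero, zero_add, MonoidHom.one_apply, Units.val_one, map_one, mul_one],
    ← Finset.mul_sum, Finset.sum_erase_eq_sub (Finset.mem_univ _), sum_psi (E.R.ne_one i),
    h.psi_one (E.R.ne_one i)] at hz
  simp only [res, OneMemClass.coe_one, H42.irr_one_eq, MonoidHom.one_apply, Units.val_one, map_one,
    mul_one] at hz
  push_cast
  linear_combination hz

open scoped Classical in
/-- The orbit sum at `y` is the sum of the character over the conjugates of `y`. -/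
theorem Ctx.psi_eq_sum_conj [Fintype ↥(P : Subgroup G)] (h : Ctx P m)
    {ψ : ↥(P : Subgroup G) →* ℂˣ} (hψ : ψ ≠ 1) {y : ↥(P : Subgroup G)} (hy : y ≠ 1)
    {S : Finset ↥(P : Subgroup G)} (hS : ∀ z, z ∈ S ↔ IsConj (y : G) (z : G)) :
    psi P ψ y = ∑ z ∈ S, ((ψ z : ℂˣ) : ℂ) := by
  rw [show S = Finset.univ.filter (fun z : ↥(P : Subgroup G) => IsConj (y : G) (z : G)) by
    ext z; simp [hS]]
  set F : ↥(P : Subgroup G) → ℂ := fun z => if IsConj (y : G) (z : G) then 1 else 0 with hF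
  have hFi : Inv P F := fun n _ w w' e => by
    have hw : IsConj (w : G) (w' : G) := isConj_iff.2 ⟨n, e.symm⟩
    simp only [hF, show IsConj (y : G) (w' : G) ↔ IsConj (y : G) (w : G) from
      ⟨fun h' => h'.trans hw.symm, fun h' => h'.trans hw⟩]
  have h1 := congrArg conj (h.sum_mul_conj_psi hFi hψ)
  simp only [hF, map_sum, map_mul, map_natCast, Complex.conj_conj, apply_ite (conj : ℂ → ℂ),
    map_one, map_zero, ite_mul, one_mul, zero_mul, ← Finset.sum_filter] at h1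
  rw [Finset.sum_congr rfl fun z hz => h.inv_eq (psi_inv ψ) (Finset.mem_filter.1 hz).2,
    Finset.sum_const, nsmul_eq_mul, ← Fintype.card_subtype, ← Nat.card_eq_fintype_card,
    h.card_conj hy] at h1
  exact mul_left_cancel₀ (Nat.cast_ne_zero.2 h.pos.ne') h1

/-- Conjugates have equal order. -/
theorem orderOf_conj' (a x : G) : orderOf (a * x * a⁻¹) = orderOf x :=
  (MulAut.conj a).orderOf_eq x

/-- Involutions whose products of conjugates are all singular. -/
theorem dvd_orderOf_mul_of_not_conj {x v : G} (hx : x * x = 1) (hv : v * v = 1)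
    (hnc : ¬ IsConj x v) : 2 ∣ orderOf (x * v) := by
  by_contra hodd
  obtain ⟨k, hk⟩ : Odd (orderOf (x * v)) := Nat.odd_iff.2 (by omega)
  refine hnc (isConj_iff.2 ⟨(x * v) ^ k, ?_⟩)
  have hxi : x⁻¹ = x := inv_eq_of_mul_eq_one_right hx
  have hvi : v⁻¹ = v := inv_eq_of_mul_eq_one_right hv
  have hconj : x * (x * v)⁻¹ * x⁻¹ = x * v := by
    simp only [mul_inv_rev, hxi, hvi, mul_assoc, hx, mul_one]
  have h1 : x * ((x * v) ^ k)⁻¹ * x⁻¹ = (x * v) ^ k := by
    rw [← inv_pow, ← conj_pow, hconj]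
  have h1' : x * ((x * v) ^ k)⁻¹ = (x * v) ^ k * x := by
    conv_rhs => rw [← h1, inv_mul_cancel_right]
  have h2 : (x * v) ^ k * (x * v) ^ k = (x * v)⁻¹ := by
    rw [← pow_add, eq_inv_iff_mul_eq_one, ← pow_succ, show k + k + 1 = orderOf (x * v) by omega,
      pow_orderOf_eq_one]
  rw [mul_assoc, h1', ← mul_assoc, h2]
  simp only [mul_inv_rev, hxi, hvi, mul_assoc, hx, mul_one]

/-- A nontrivial character does not take its degree at an involution in no proper normal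
subgroup. -/
theorem value_ne_degree {t : G} (hK : ∀ K : Subgroup G, K.Normal → t ∈ K → K = ⊤)
    {χ : Cfsg.IrrCharacter G} (hχ : χ ≠ H26.oneIrr G) : χ.1 t ≠ χ.1 1 := by
  classical
  intro he
  haveI := Fintype.ofFinite G
  have htop := hK (H43.charKer χ) inferInstance (H43.mem_charKer.2 he)
  have hall : ∀ g, χ.1 g = χ.1 1 := fun g => H43.mem_charKer.1 (htop ▸ Subgroup.mem_top g)
  have h1 := H26.classInner_irr χ (H26.oneIrr G)
  rw [if_neg hχ, Cfsg.classInner] at h1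
  simp only [hall, H26.oneIrr_val, map_one, mul_one, Finset.sum_const, Finset.card_univ,
    nsmul_eq_mul] at h1
  rw [← Nat.card_eq_fintype_card, ← mul_assoc,
    inv_mul_cancel₀ (Nat.cast_ne_zero.2 Nat.card_pos.ne'), one_mul] at h1
  exact H26.irr_one_ne_zero χ h1

/-- With the structure for `m = 3`, no such involution exists when `p = 2`. -/
theorem Exc.two_false [Fintype G] (E : Exc M P 3 r) (h : Ctx P 3) (hM : Cfsg.IsPModular p M)
    (hd : E.d = 0) {x₂ x₃ : Cfsg.IrrCharacter G} (hne : x₂ ≠ x₃)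
    (hX : E.X.erase (H26.oneIrr G) = {x₂, x₃}) (hunit : ∀ χ ∈ E.X, E.a χ = 1 ∨ E.a χ = -1)
    (hp2 : p = 2) {t : G} (ht : orderOf t = 2)
    (hK : ∀ K : Subgroup G, K.Normal → t ∈ K → K = ⊤) : False := by
  classical
  subst hp2
  haveI := Fintype.ofFinite ↥(P : Subgroup G)
  have hx₂ : x₂ ∈ E.X ∧ x₂ ≠ H26.oneIrr G := by
    have : x₂ ∈ E.X.erase (H26.oneIrr G) := hX ▸ by simp
    exact ⟨Finset.mem_of_mem_erase this, (Finset.mem_erase.1 this).1⟩
  have hx₃ : x₃ ∈ E.X ∧ x₃ ≠ H26.oneIrr G := by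
    have : x₃ ∈ E.X.erase (H26.oneIrr G) := hX ▸ by simp
    exact ⟨Finset.mem_of_mem_erase this, (Finset.mem_erase.1 this).1⟩
  have hsing : ∀ χ ∈ E.X, ∀ g : G, 2 ∣ orderOf g → χ.1 g = (E.a χ : ℂ) := by
    intro χ hχ g hg
    obtain ⟨y, x, hx, hxy⟩ := exists_rep P g
    have hy : y ≠ 1 := fun e => by
      subst e
      exact (H40.regular_iff_pPart_eq_one hx).2 (by simpa using hxy) hg
    rw [h.block_value hM (E.mem_block_of_mem hχ) hy hx hxy, E.val_X χ hχ y hy]
  -- one class of involutions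
  have hclass : ∀ v : G, orderOf v = 2 → IsConj t v := by
    intro v hv
    by_contra hnc
    have hsq : ∀ {w : G}, orderOf w = 2 → w * w = 1 := fun {w} hw => by
      rw [← sq, ← hw, pow_orderOf_eq_one]
    have hprod : ∀ x w : G, IsConj t x → IsConj v w → 2 ∣ orderOf (x * w) := fun x w hx hw => by
      refine dvd_orderOf_mul_of_not_conj (hsq ?_) (hsq ?_) fun hxw => hnc ((hx.trans hxw).trans hw.symm)
      · obtain ⟨a, rfl⟩ := isConj_iff.1 hx; rw [orderOf_conj', ht]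
      · obtain ⟨a, rfl⟩ := isConj_iff.1 hw; rw [orderOf_conj', hv]
    have h1 := S0943.result x₂ t v fun x w hx hw => by
      rw [hsing _ hx₂.1 _ (hprod x w hx hw), hsing _ hx₂.1 _ (hprod t v (IsConj.refl _) (IsConj.refl _))]
    rw [hsing _ hx₂.1 t ht.symm.dvd, hsing _ hx₂.1 v hv.symm.dvd,
      hsing _ hx₂.1 _ (hprod t v (IsConj.refl _) (IsConj.refl _))] at h1
    have ha : (E.a x₂ : ℂ) ≠ 0 := Int.cast_ne_zero.2 (E.a_ne _ hx₂.1)
    exact value_ne_degree hK hx₂.2 ((hsing _ hx₂.1 t ht.symm.dvd).trans (mul_right_cancel₀ ha h1))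
  obtain ⟨t₀, x, hx, hxt⟩ := exists_rep P t
  have hxt' : x = t := H40.isPPart_unique hx
    ⟨1, mul_one _, Commute.one_right _, ⟨1, by rw [ht, pow_one]⟩, by simp⟩
  rw [hxt'] at hxt
  have ht₀ : orderOf (t₀ : G) = 2 := by
    obtain ⟨a, ha⟩ := isConj_iff.1 hxt
    rw [← ha, orderOf_conj', ht]
  have ht₀1 : t₀ ≠ 1 := fun e => by
    subst e; simp at ht₀
  have hK₀ : ∀ K : Subgroup G, K.Normal → (t₀ : G) ∈ K → K = ⊤ := fun K hKn hm => hK K hKn (by
    obtain ⟨a, ha⟩ := isConj_iff.1 hxt.symm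
    rw [← ha]; exact hKn.conj_mem _ hm a)
  -- an element of order at least four
  obtain ⟨y, hy⟩ : ∃ y : ↥(P : Subgroup G), y * y ≠ 1 := by
    by_contra hall
    push Not at hall
    have hc := h.card_conj ht₀1
    have hiff : ∀ z : ↥(P : Subgroup G), IsConj (t₀ : G) (z : G) ↔ z ≠ 1 := by
      refine fun z => ⟨fun hz e => ?_, fun hz => ?_⟩
      · subst e; exact ht₀1 (Subtype.ext (by simpa using hz))
      · refine hxt.symm.trans (hclass _ ?_)
        rw [orderOf_eq_prime_iff]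
        exact ⟨by rw [sq]; exact congrArg Subtype.val (hall z), fun e => hz (Subtype.ext e)⟩
    simp only [hiff] at hc
    rw [Nat.card_eq_fintype_card, Fintype.card_subtype_compl, Fintype.card_subtype_eq,
      ← Nat.card_eq_fintype_card] at hc
    have := E.card
    have := E.two_le
    omega
  have hy1 : y ≠ 1 := fun e => hy (by simp [e])
  have hn16 : (16 : ℤ) ≤ Nat.card P := by
    obtain ⟨k, hk⟩ := IsPGroup.iff_card.1 P.2
    have h1 := E.card
    have h2 := E.two_le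
    rw [hk] at h1 ⊢
    rcases Nat.lt_or_ge k 4 with hk4 | hk4
    · interval_cases k <;> omega
    · exact_mod_cast le_trans (by norm_num) (Nat.pow_le_pow_right (show 2 > 0 by norm_num) hk4)
  -- the orbit sums at `t₀`
  set S := Finset.univ.filter (fun z : ↥(P : Subgroup G) => IsConj (t₀ : G) (z : G)) with hS
  have hS3 : S.card = 3 := by
    rw [hS, ← Fintype.card_subtype, ← Nat.card_eq_fintype_card, h.card_conj ht₀1]
  have hSinv : ∀ z ∈ S, z ≠ 1 ∧ z * z = 1 := by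
    intro z hz
    obtain ⟨a, ha⟩ := isConj_iff.1 (Finset.mem_filter.1 hz).2
    have ho : orderOf (z : G) = 2 := by rw [← ha, orderOf_conj', ht₀]
    refine ⟨fun e => by subst e; simp at ho, Subtype.ext ?_⟩
    have h2 := pow_orderOf_eq_one (z : G)
    rw [ho, sq] at h2
    rw [Subgroup.coe_mul, h2, OneMemClass.coe_one]
  have hSmem : ∀ z : ↥(P : Subgroup G), z ≠ 1 → z * z = 1 → z ∈ S := fun z h1 h2 => by
    refine Finset.mem_filter.2 ⟨Finset.mem_univ _, hxt.symm.trans (hclass _ ?_)⟩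
    rw [orderOf_eq_prime_iff]
    exact ⟨by rw [sq]; exact congrArg Subtype.val h2, fun e => h1 (Subtype.ext e)⟩
  obtain ⟨u, v, w, huv, huw, hvw, hSe⟩ := Finset.card_eq_three.1 hS3
  have huv' : w = u * v := by
    haveI := h.comm
    have hu := hSinv u (by simp [hSe])
    have hv := hSinv v (by simp [hSe])
    have hmem := hSmem (u * v) (fun e => huv (mul_left_cancel (hu.2.trans e.symm)))
      (by rw [mul_assoc, ← mul_assoc v, mul_comm' v u, mul_assoc u v v, hv.2, mul_one, hu.2])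
    rw [hSe] at hmem
    simp only [Finset.mem_insert, Finset.mem_singleton] at hmem
    rcases hmem with e | e | e
    · exact absurd (mul_eq_left.1 e) hv.1
    · exact absurd (mul_eq_right.1 e) hu.1
    · exact e.symm
  have hsq : ∀ i, psi P (E.R.rep i) t₀ * psi P (E.R.rep i) t₀ =
      3 + 2 * psi P (E.R.rep i) t₀ := by
    intro i
    rw [h.psi_eq_sum_conj (E.R.ne_one i) ht₀1 (S := S) (fun z => by simp [hS]), hSe, Finset.sum_insert (by simp [huv, huw]),
      Finset.sum_pair hvw, huv', map_mul, Units.val_mul]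
    have hone : ∀ s : ↥(P : Subgroup G), s * s = 1 →
        ((E.R.rep i s : ℂˣ) : ℂ) * (E.R.rep i s : ℂˣ) = 1 := fun s hs => by
      rw [← Units.val_mul, ← map_mul, hs, map_one, Units.val_one]
    rcases mul_self_eq_one_iff.1 (hone u (hSinv u (by simp [hSe])).2) with e | e <;>
      rcases mul_self_eq_one_iff.1 (hone v (hSinv v (by simp [hSe])).2) with e' | e' <;>
      rw [e, e'] <;> norm_num
  have hcross : ∑ i, psi P (E.R.rep i) t₀ * psi P (E.R.rep i) y = -3 := by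
    haveI := h.comm
    have e : ∀ i, psi P (E.R.rep i) t₀ * psi P (E.R.rep i) y =
        ∑ ψ ∈ Finset.univ.filter (· ∈ orb P (E.R.rep i)), ∑ s ∈ S, ((ψ (s * y) : ℂˣ) : ℂ) := by
      intro i
      rw [psi_eq_sum (E.R.rep i) y, Finset.mul_sum]
      refine Finset.sum_congr rfl fun ψ hψ => ?_
      have hmem := (Finset.mem_filter.1 hψ).2
      rw [show psi P (E.R.rep i) t₀ = psi P ψ t₀ by rw [psi, psi, orb_eq_of_mem hmem],
        h.psi_eq_sum_conj (ne_one_of_mem_orb (E.R.ne_one i) hmem) ht₀1 (S := S) (fun z => by simp [hS]), Finset.sum_mul]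
      exact Finset.sum_congr rfl fun s _ => by rw [map_mul, Units.val_mul]
    rw [Finset.sum_congr rfl fun i _ => e i,
      E.R.sum_psi_eq fun ψ => ∑ s ∈ S, ((ψ (s * y) : ℂˣ) : ℂ), Finset.sum_comm]
    have e2 : ∀ s ∈ S, ∑ ψ ∈ Finset.univ.filter (· ≠ (1 : ↥(P : Subgroup G) →* ℂˣ)),
        ((ψ (s * y) : ℂˣ) : ℂ) = -1 := by
      intro s hs
      have hne1 : s * y ≠ 1 := fun e1 => hy (by
        have hys : y = s := mul_left_cancel (e1.trans (hSinv s hs).2.symm)
        rw [hys]; exact (hSinv s hs).2)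
      have h1 := H27.sum_linear_apply (C := ↥(P : Subgroup G)) (s * y)
      rw [if_neg hne1, ← Finset.add_sum_erase _ _
        (Finset.mem_univ (1 : ↥(P : Subgroup G) →* ℂˣ)), MonoidHom.one_apply, Units.val_one] at h1
      rw [Finset.filter_ne']
      linear_combination h1
    refine (Finset.sum_congr rfl (g := fun _ => (-1 : ℂ)) fun s hs => ?_).trans ?_
    · convert e2 s hs
    · rw [Finset.sum_const, hS3]
      simp
  -- the equation
  have hinv := h.involution_sum hM E ht₀ hy1 (h.not_isConj_inv hy)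
  have hi0 : Fin r := ⟨0, by have := E.two_le; omega⟩
  have hdeg : ∀ i, (E.mu i).1 1 = (Cfsg.charDegree (E.mu hi0 : G → ℂ) : ℂ) := fun i => by
    rw [← H42.irr_one_eq, E.reg i hi0 1 (by simp)]
  have hmu : ∑ i, (E.mu i).1 (t₀ : G) * (E.mu i).1 (t₀ : G) / (E.mu i).1 1 * (E.mu i).1 (y : G) =
      -9 * (E.e : ℂ) / (Cfsg.charDegree (E.mu hi0 : G → ℂ) : ℂ) := by
    have he2 : (E.e : ℂ) * E.e = 1 := by rcases E.e_unit with he | he <;> simp [he]
    have e : ∀ i, (E.mu i).1 (t₀ : G) * (E.mu i).1 (t₀ : G) / (E.mu i).1 1 * (E.mu i).1 (y : G) =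
        (E.e : ℂ) / (Cfsg.charDegree (E.mu hi0 : G → ℂ) : ℂ) *
          (3 * psi P (E.R.rep i) y + 2 * (psi P (E.R.rep i) t₀ * psi P (E.R.rep i) y)) := by
      intro i
      rw [hdeg, E.val_mu i t₀ ht₀1, E.val_mu i y hy1, hd, Int.cast_zero, zero_add, zero_add]
      linear_combination ((E.e : ℂ) / (Cfsg.charDegree (E.mu hi0 : G → ℂ) : ℂ) *
        psi P (E.R.rep i) y) * (psi P (E.R.rep i) t₀ * psi P (E.R.rep i) t₀ * he2 + hsq i)
    rw [Finset.sum_congr rfl fun i _ => e i, ← Finset.mul_sum, Finset.sum_add_distrib,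
      ← Finset.mul_sum, ← Finset.mul_sum, h.sum_reps_psi E.R hy1, hcross]
    ring
  rw [hmu, ← Finset.add_sum_erase _ _ E.one_mem, hX, Finset.sum_pair hne, H26.oneIrr_val,
    H26.oneIrr_val, H26.oneIrr_val, E.val_X _ hx₂.1 t₀ ht₀1, E.val_X _ hx₂.1 y hy1,
    E.val_X _ hx₃.1 t₀ ht₀1, E.val_X _ hx₃.1 y hy1, H42.irr_one_eq, H42.irr_one_eq] at hinv
  have c2 := E.degree_congr hx₂.1
  have c3 := E.degree_congr hx₃.1
  have c4 := E.degree_congr_mu h hd hi0
  have n2 : Cfsg.charDegree (x₂ : G → ℂ) = 1 → E.a x₂ ≠ 1 := fun e1 e2 => by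
    refine value_ne_degree hK₀ hx₂.2 ?_
    rw [E.val_X _ hx₂.1 t₀ ht₀1, H42.irr_one_eq, e1, e2]; simp
  have n3 : Cfsg.charDegree (x₃ : G → ℂ) = 1 → E.a x₃ ≠ 1 := fun e1 e2 => by
    refine value_ne_degree hK₀ hx₃.2 ?_
    rw [E.val_X _ hx₃.1 t₀ ht₀1, H42.irr_one_eq, e1, e2]; simp
  have p2 : 0 < Cfsg.charDegree (x₂ : G → ℂ) := H42.charDegree_pos x₂
  have p3 : 0 < Cfsg.charDegree (x₃ : G → ℂ) := H42.charDegree_pos x₃
  have p4 : 0 < Cfsg.charDegree (E.mu hi0 : G → ℂ) := H42.charDegree_pos _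
  set A := Cfsg.charDegree (x₂ : G → ℂ)
  set B := Cfsg.charDegree (x₃ : G → ℂ)
  set D := Cfsg.charDegree (E.mu hi0 : G → ℂ)
  set a := E.a x₂ with hadef
  set b := E.a x₃ with hbdef
  set e := E.e with hedef
  set n : ℤ := (Nat.card P : ℤ)
  have ua : a * a = 1 := by rcases hunit _ hx₂.1 with h' | h' <;> simp [hadef, h']
  have ub : b * b = 1 := by rcases hunit _ hx₃.1 with h' | h' <;> simp [hbdef, h']
  have heq : (D : ℤ) * A * B + a * D * B + b * D * A - 9 * e * A * B = 0 := by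
    apply Int.cast_injective (α := ℂ)
    have ua' : (a : ℂ) * a = 1 := by exact_mod_cast ua
    have ub' : (b : ℂ) * b = 1 := by exact_mod_cast ub
    have hA0 : (A : ℂ) ≠ 0 := Nat.cast_ne_zero.2 p2.ne'
    have hB0 : (B : ℂ) ≠ 0 := Nat.cast_ne_zero.2 p3.ne'
    have hD0 : (D : ℂ) ≠ 0 := Nat.cast_ne_zero.2 p4.ne'
    rw [ua', ub'] at hinv
    field_simp at hinv
    push_cast
    linear_combination hinv
  have big : ∀ {N : ℕ} {c : ℤ}, 0 < N → (c = 1 ∨ c = -1) → n ∣ (N : ℤ) - c →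
      (N = 1 → c ≠ 1) → 15 ≤ N := by
    intro N c hN hc hdvd hn1
    rcases eq_or_ne ((N : ℤ) - c) 0 with e0 | e0
    · rcases hc with rfl | rfl
      · exact absurd rfl (hn1 (by omega))
      · omega
    · have h1 := Int.le_of_dvd (by rcases hc with rfl | rfl <;> omega) hdvd
      rcases hc with rfl | rfl <;> omega
  have hA15 := big p2 (hunit _ hx₂.1) c2 n2
  have hB15 := big p3 (hunit _ hx₃.1) c3 n3
  have hA' : (15 : ℤ) ≤ A := by exact_mod_cast hA15
  have hB' : (15 : ℤ) ≤ B := by exact_mod_cast hB15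
  have hD' : (D = 3 ∧ e = 1) ∨ 13 ≤ D := by
    rcases eq_or_ne ((D : ℤ) - (3 : ℕ) * e) 0 with e0 | e0
    · rcases E.e_unit with h' | h' <;> rw [← hedef] at h' <;> rw [h'] at e0
      · exact Or.inl ⟨by omega, h'⟩
      · omega
    · right
      rcases Int.natAbs_dvd_natAbs.2 c4 with ⟨c, hc⟩
      have hcpos : 1 ≤ c := Nat.pos_of_ne_zero fun hz => e0 (by
        rw [hz, mul_zero] at hc; exact Int.natAbs_eq_zero.1 hc)
      have : n.natAbs ≤ ((D : ℤ) - (3 : ℕ) * e).natAbs := hc ▸ Nat.le_mul_of_pos_right _ hcpos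
      rcases E.e_unit with h' | h' <;> rw [← hedef] at h' <;> rw [h'] at this <;> omega
  have hDpos : (0 : ℤ) ≤ D := Int.natCast_nonneg D
  have la : -1 ≤ a ∧ a ≤ 1 := ⟨by nlinarith, by nlinarith⟩
  have lb : -1 ≤ b ∧ b ≤ 1 := ⟨by nlinarith, by nlinarith⟩
  rcases hD' with ⟨hD3, he1⟩ | hD13
  · rw [hD3, he1] at heq
    push_cast at heq
    nlinarith [mul_le_mul hA' hB' (by norm_num) (by linarith),
      mul_le_mul_of_nonneg_right la.2 (show (0 : ℤ) ≤ B by linarith),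
      mul_le_mul_of_nonneg_right lb.2 (show (0 : ℤ) ≤ A by linarith)]
  · have hD'' : (13 : ℤ) ≤ D := by exact_mod_cast hD13
    have t1 : 0 ≤ (a + 1) * (D * B) := mul_nonneg (by linarith) (mul_nonneg hDpos (by linarith))
    have t2 : 0 ≤ (b + 1) * (D * A) := mul_nonneg (by linarith) (mul_nonneg hDpos (by linarith))
    have t3 : 0 ≤ (9 - 9 * e) * ((A : ℤ) * B) := mul_nonneg
      (by rcases E.e_unit with h' | h' <;> rw [← hedef] at h' <;> rw [h'] <;> norm_num)
      (mul_nonneg (by linarith) (by linarith))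
    nlinarith [mul_nonneg (show (0 : ℤ) ≤ A - 15 by linarith) (show (0 : ℤ) ≤ B - 15 by linarith),
      mul_nonneg hDpos (mul_nonneg (show (0 : ℤ) ≤ A - 15 by linarith)
        (show (0 : ℤ) ≤ B - 15 by linarith)),
      mul_nonneg (show (0 : ℤ) ≤ D - 13 by linarith) (show (0 : ℤ) ≤ A by linarith),
      mul_nonneg (show (0 : ℤ) ≤ D - 13 by linarith) (show (0 : ℤ) ≤ B by linarith)]

/-- The signs and the square of the product of degrees. -/
theorem Exc.signs_square [Fintype G] (E : Exc M P 3 r) (h : Ctx P 3) (hM : Cfsg.IsPModular p M)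
    (hd : E.d = 0) {x₂ x₃ : Cfsg.IrrCharacter G} (hne : x₂ ≠ x₃)
    (hX : E.X.erase (H26.oneIrr G) = {x₂, x₃}) (hunit : ∀ χ ∈ E.X, E.a χ = 1 ∨ E.a χ = -1)
    {t : G} (ht : orderOf t = 2) (hK : ∀ K : Subgroup G, K.Normal → t ∈ K → K = ⊤) (i : Fin r) :
    (if E.a x₂ = -1 then 1 else 0) + (if E.a x₃ = -1 then 1 else 0) +
        (if E.e = 1 then 1 else 0) = 2 ∧
      IsSquare (Cfsg.charDegree (E.mu i : G → ℂ) *
        (Cfsg.charDegree (x₂ : G → ℂ) * Cfsg.charDegree (x₃ : G → ℂ))) := by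
  classical
  by_cases hp2 : p = 2
  · exact (E.two_false h hM hd hne hX hunit hp2 ht hK).elim
  haveI := Fintype.ofFinite ↥(P : Subgroup G)
  have hx₂ : x₂ ∈ E.X ∧ x₂ ≠ H26.oneIrr G := by
    have : x₂ ∈ E.X.erase (H26.oneIrr G) := hX ▸ by simp
    exact ⟨Finset.mem_of_mem_erase this, (Finset.mem_erase.1 this).1⟩
  have hx₃ : x₃ ∈ E.X ∧ x₃ ≠ H26.oneIrr G := by
    have : x₃ ∈ E.X.erase (H26.oneIrr G) := hX ▸ by simp
    exact ⟨Finset.mem_of_mem_erase this, (Finset.mem_erase.1 this).1⟩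
  have htreg : ¬ p ∣ orderOf t := by
    rw [ht]; exact fun hd' => hp2 ((Nat.prime_dvd_prime_iff_eq Fact.out Nat.prime_two).1 hd')
  have h1reg : ¬ p ∣ orderOf (1 : G) := by simp [(Fact.out : p.Prime).ne_one]
  obtain ⟨y, hy1⟩ : ∃ y : ↥(P : Subgroup G), y ≠ 1 :=
    haveI : Nontrivial ↥(P : Subgroup G) := Finite.one_lt_card_iff_nontrivial.1
      (show 1 < Nat.card P by have := E.card; have := E.two_le; omega)
    exists_ne 1
  have hy2 : y * y ≠ 1 := fun e => by
    have hdvd : p ∣ orderOf y := by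
      rw [← Subgroup.orderOf_coe]; exact dvd_orderOf_of_ne_one y.2 fun e' => hy1 (Subtype.ext e')
    have h2 : orderOf y ∣ 2 := orderOf_dvd_of_pow_eq_one (by rw [sq, e])
    exact hp2 ((Nat.prime_dvd_prime_iff_eq Fact.out Nat.prime_two).1 (hdvd.trans h2))
  have hsum := h.involution_sum hM E ht hy1 (h.not_isConj_inv hy2)
  obtain ⟨n₂, hn₂, -⟩ := S0944.result x₂ t ht
  obtain ⟨n₃, hn₃, -⟩ := S0944.result x₃ t ht
  obtain ⟨n₄, hn₄, -⟩ := S0944.result (E.mu i) t ht
  have hmu : ∑ j, (E.mu j).1 t * (E.mu j).1 t / (E.mu j).1 1 * (E.mu j).1 (y : G) =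
      -(E.e : ℂ) * ((n₄ : ℂ) * n₄ / (Cfsg.charDegree (E.mu i : G → ℂ) : ℂ)) := by
    rw [Finset.sum_congr rfl fun j _ => by rw [E.reg j i t htreg, E.reg j i 1 h1reg,
      E.val_mu j y hy1, hd, Int.cast_zero, zero_add], ← Finset.mul_sum, ← Finset.mul_sum,
      h.sum_reps_psi E.R hy1, hn₄, H42.irr_one_eq]
    ring
  rw [hmu, ← Finset.add_sum_erase _ _ E.one_mem, hX, Finset.sum_pair hne, H26.oneIrr_val,
    H26.oneIrr_val, H26.oneIrr_val, E.val_X _ hx₂.1 y hy1,
    E.val_X _ hx₃.1 y hy1, H42.irr_one_eq, H42.irr_one_eq, hn₂, hn₃] at hsum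
  have hr1 := E.rel i 1 h1reg
  have hrt := E.rel i t htreg
  simp only [hd, Int.cast_zero, mul_zero, zero_sub, ← Finset.add_sum_erase _ _ E.one_mem, hX,
    Finset.sum_pair hne, E.a_one, H26.oneIrr_val, Int.cast_one, one_mul, H42.irr_one_eq, hn₂, hn₃,
    hn₄] at hr1 hrt
  have u2 := value_ne_degree hK hx₂.2
  have u3 := value_ne_degree hK hx₃.2
  have u4 := value_ne_degree hK (χ := E.mu i) fun e => E.notMem i (e ▸ E.one_mem)
  rw [hn₂, H42.irr_one_eq] at u2
  rw [hn₃, H42.irr_one_eq] at u3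
  rw [hn₄, H42.irr_one_eq] at u4
  have p2 : 0 < Cfsg.charDegree (x₂ : G → ℂ) := H42.charDegree_pos x₂
  have p3 : 0 < Cfsg.charDegree (x₃ : G → ℂ) := H42.charDegree_pos x₃
  have p4 : 0 < Cfsg.charDegree (E.mu i : G → ℂ) := H42.charDegree_pos _
  have ua := hunit _ hx₂.1
  have ub := hunit _ hx₃.1
  have ue := E.e_unit
  set A := Cfsg.charDegree (x₂ : G → ℂ)
  set B := Cfsg.charDegree (x₃ : G → ℂ)
  set D := Cfsg.charDegree (E.mu i : G → ℂ)
  set a := E.a x₂
  set b := E.a x₃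
  set e := E.e
  have ua0 : a ≠ 0 := by omega
  have ub0 : b ≠ 0 := by omega
  have ue0 : e ≠ 0 := by omega
  have key := signs_and_square (b2 := a * A) (b3 := b * B) (b4 := -e * D) (c2 := a * n₂)
    (c3 := b * n₃) (c4 := -e * n₄) ?_ ?_ (mul_ne_zero ua0 (by omega)) (mul_ne_zero ub0 (by omega))
    (mul_ne_zero (neg_ne_zero.2 ue0) (by omega))
    (fun he => u2 (by exact_mod_cast mul_left_cancel₀ ua0 he))
    (fun he => u3 (by exact_mod_cast mul_left_cancel₀ ub0 he)) ?_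
    (fun he => u4 (by exact_mod_cast mul_left_cancel₀ (neg_ne_zero.2 ue0) he))
  rotate_left
  · apply Int.cast_injective (α := ℂ)
    have hone1 : (Cfsg.charDegree ((H26.oneIrr G : Cfsg.IrrCharacter G) : G → ℂ) : ℂ) = 1 := by
      rw [← H42.irr_one_eq, H26.oneIrr_val]
    rw [hone1] at hr1
    push_cast
    linear_combination hr1
  · apply Int.cast_injective (α := ℂ)
    push_cast
    linear_combination hrt
  · apply Int.cast_injective (α := ℂ)
    have hA0 : (A : ℂ) ≠ 0 := Nat.cast_ne_zero.2 p2.ne'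
    have hB0 : (B : ℂ) ≠ 0 := Nat.cast_ne_zero.2 p3.ne'
    have hD0 : (D : ℂ) ≠ 0 := Nat.cast_ne_zero.2 p4.ne'
    field_simp at hsum
    push_cast
    linear_combination (-((a : ℂ) * b * e)) * hsum
  obtain ⟨hsign, k, hk⟩ := key
  have hA' : (0 : ℤ) < A := by exact_mod_cast p2
  have hB' : (0 : ℤ) < B := by exact_mod_cast p3
  have hD' : (0 : ℤ) < D := by exact_mod_cast p4
  refine ⟨?_, k.natAbs, ?_⟩
  · rcases ua with h2 | h2 <;> rcases ub with h3 | h3 <;> rcases ue with h4 | h4 <;>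
      simp only [h2, h3, h4, one_mul, neg_one_mul, neg_neg] at hsign ⊢ <;>
      first | (norm_num; done) | (exfalso; omega)
  · have := congrArg Int.natAbs hk
    have hu : a.natAbs = 1 ∧ b.natAbs = 1 ∧ e.natAbs = 1 := by omega
    simp only [Int.natAbs_mul, Int.natAbs_neg, Int.natAbs_natCast, hu.1, hu.2.1, hu.2.2,
      one_mul] at this
    linarith [this]

end Cfsg.Agent.H28.Ab
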