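import Mathlib
import Cfsg.Agent.H28.Counting

/-!
# Groups with a Klein four Sylow 2-subgroup
-/

namespace Cfsg.Agent.H28

variable {G : Type*} [Group G] [Finite G]

/-- With a Klein four Sylow `2`-subgroup `P`, either all involutions are conjugate or `N(P) =
C(P)` and `P` has a normal complement. -/
theorem klein_sylow_dichotomy (P : Sylow 2 G) (hP : IsKleinFour (P : Subgroup G)) :
    ((∀ s t : G, orderOf s = 2 → orderOf t = 2 → IsConj s t) ∧
      ¬ ∃ N : Subgroup G, N.Normal ∧ Subgroup.IsComplement' N (P : Subgroup G)) ∨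
    ((∀ x ∈ P, ∀ y ∈ P, IsConj x y → x = y) ∧
      ∃ N : Subgroup G, N.Normal ∧ Subgroup.IsComplement' N (P : Subgroup G)) := by
  classical
  haveI : Fact (Nat.Prime 2) := ⟨Nat.prime_two⟩
  have hcard : Nat.card (P : Subgroup G) = 4 := hP.card_four
  have hsq : ∀ x ∈ P, x * x = 1 := by
    intro x hx
    have h := Monoid.pow_exponent_eq_one (⟨x, hx⟩ : (P : Subgroup G))
    rw [hP.exponent_two, pow_two] at h
    exact congrArg Subtype.val h
  have hcomm : ∀ x ∈ P, ∀ y ∈ P, x * y = y * x := by
    intro x hx y hy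
    rw [← inv_eq_of_mul_eq_one_right (hsq _ (mul_mem hx hy)), mul_inv_rev,
      inv_eq_of_mul_eq_one_right (hsq x hx), inv_eq_of_mul_eq_one_right (hsq y hy)]
  by_cases hNC : Subgroup.normalizer ((P : Subgroup G) : Set G) ≤
      Subgroup.centralizer ((P : Subgroup G) : Set G)
  · right
    refine ⟨?_, ⟨_, MonoidHom.normal_ker _, MonoidHom.ker_transferSylow_isComplement' P hNC⟩⟩
    intro x hx y hy hxy
    haveI : IsMulCommutative (P : Subgroup G) :=
      ⟨⟨fun a b => Subtype.ext (hcomm a a.2 b b.2)⟩⟩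
    obtain ⟨g, hg⟩ := isConj_iff.mp hxy
    obtain ⟨n, hn, hne⟩ := P.conj_eq_normalizer_conj_of_mem x g⁻¹ hx (by rw [inv_inv, hg]; exact hy)
    rw [inv_inv, hg] at hne
    rw [hne, mul_assoc, Subgroup.mem_centralizer_iff.mp (hNC hn) x hx, inv_mul_cancel_left]
  · left
    obtain ⟨n, hn, hnC⟩ := Set.not_subset.mp hNC
    -- a 2-element of N(P) centralises P
    have hsqc : ∀ g ∈ Subgroup.normalizer ((P : Subgroup G) : Set G),
        g ^ 2 ∈ Subgroup.centralizer ((P : Subgroup G) : Set G) →
        g ∈ Subgroup.centralizer ((P : Subgroup G) : Set G) := by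
      intro g hg h2
      obtain ⟨a, m, hm, ham⟩ :=
        Nat.exists_eq_two_pow_mul_odd (isOfFinOrder_of_finite g).orderOf_pos.ne'
      have h1 : IsPGroup 2 (Subgroup.zpowers (g ^ m)) := by
        obtain ⟨b, -, hb⟩ := (Nat.dvd_prime_pow Nat.prime_two).mp (orderOf_dvd_of_pow_eq_one
          (show (g ^ m) ^ 2 ^ a = 1 by rw [← pow_mul, mul_comm, ← ham, pow_orderOf_eq_one]))
        exact IsPGroup.of_card (by rw [Nat.card_zpowers, hb])
      have h3 := P.is_maximal' (h1.to_sup_of_normal_right' P.2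
        (Subgroup.zpowers_le.mpr (pow_mem hg m))) le_sup_right
      have h4 : g ^ m ∈ (P : Subgroup G) := by
        have h5 : g ^ m ∈ Subgroup.zpowers (g ^ m) ⊔ (P : Subgroup G) :=
          Subgroup.mem_sup_left (Subgroup.mem_zpowers _)
        rwa [h3] at h5
      have h5 : g ^ m ∈ Subgroup.centralizer ((P : Subgroup G) : Set G) :=
        Subgroup.mem_centralizer_iff.mpr fun y hy => hcomm y hy _ h4
      obtain ⟨k, hk⟩ := hm
      have h6 : g = ((g ^ 2) ^ k)⁻¹ * g ^ m := by
        rw [hk, ← pow_mul, pow_succ, inv_mul_cancel_left]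
      rw [h6]
      exact mul_mem (inv_mem (pow_mem h2 k)) h5
    -- an element fixing one involution of P centralises P
    have hfix : ∀ g ∈ Subgroup.normalizer ((P : Subgroup G) : Set G), ∀ x ∈ P, x ≠ 1 →
        g * x * g⁻¹ = x → g ∈ Subgroup.centralizer ((P : Subgroup G) : Set G) := by
      intro g hg x hx hx1 hgx
      refine hsqc g hg (Subgroup.mem_centralizer_iff.mpr fun y hy => ?_)
      have hset : ∀ z ∈ P, z = 1 ∨ z = x ∨ z = y ∨ z = x * y ∨ y = 1 ∨ y = x := by
        intro z hz
        by_contra hcon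
        simp only [not_or] at hcon
        obtain ⟨hz1, hzx, hzy, hzxy, hy1, hyx⟩ := hcon
        have hx' := inv_eq_of_mul_eq_one_right (hsq x hx)
        have hxy1 : x * y ≠ 1 := fun e => hyx (by rw [← inv_eq_of_mul_eq_one_right e, hx'])
        have hxyx : x * y ≠ x := fun e => hy1 (mul_eq_left.mp e)
        have hxyy : x * y ≠ y := fun e => hx1 (mul_eq_right.mp e)
        let f : Fin 5 → (P : Subgroup G) :=
          ![⟨1, one_mem _⟩, ⟨x, hx⟩, ⟨y, hy⟩, ⟨x * y, mul_mem hx hy⟩, ⟨z, hz⟩]
        have hf : Function.Injective f := by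
          intro a b hab
          have hab' : (f a : G) = (f b : G) := congrArg Subtype.val hab
          fin_cases a <;> fin_cases b <;> simp [f, eq_comm] at hab' ⊢ <;>
            first
              | exact hx1 hab' | exact hy1 hab' | exact hxy1 hab' | exact hz1 hab'
              | exact hyx hab' | exact hxyx hab' | exact hzx hab' | exact hxyy hab'
              | exact hzy hab' | exact hzxy hab'
              | exact hx1 hab'.symm | exact hy1 hab'.symm | exact hxy1 hab'.symm
              | exact hz1 hab'.symm | exact hyx hab'.symm | exact hxyx hab'.symm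
              | exact hzx hab'.symm | exact hxyy hab'.symm | exact hzy hab'.symm
              | exact hzxy hab'.symm
        have := Nat.card_le_card_of_injective f hf
        rw [Nat.card_fin, hcard] at this
        omega
      have hgy : g * y * g⁻¹ ∈ P := (Subgroup.mem_normalizer_iff.mp hg y).mp hy
      rcases hset _ hgy with h | h | h | h | h | h
      · have : y = 1 := by simpa using h
        simp [this]
      · have : y = x := mul_left_cancel (mul_right_cancel (h.trans hgx.symm))
        rw [this]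
        exact ((show Commute g x from mul_inv_eq_iff_eq_mul.mp hgx).pow_left 2).symm.eq
      · exact ((show Commute g y from mul_inv_eq_iff_eq_mul.mp h).pow_left 2).symm.eq
      · symm
        rw [← mul_inv_eq_iff_eq_mul]
        calc g ^ 2 * y * (g ^ 2)⁻¹ = g * (g * y * g⁻¹) * g⁻¹ := by simp [pow_two, mul_assoc]
          _ = g * (x * y) * g⁻¹ := by rw [h]
          _ = (g * x * g⁻¹) * (g * y * g⁻¹) := by simp [mul_assoc]
          _ = y := by rw [hgx, h, ← mul_assoc, hsq x hx, one_mul]
      · simp [h]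
      · rw [h]
        exact ((show Commute g x from mul_inv_eq_iff_eq_mul.mp hgx).pow_left 2).symm.eq
    have hn2 : n ^ 2 ∉ Subgroup.centralizer ((P : Subgroup G) : Set G) := fun h => hnC (hsqc n hn h)
    have hconjP : ∀ x ∈ P, x ≠ 1 → ∀ y ∈ P, y ≠ 1 → IsConj x y := by
      intro x hx hx1 y hy hy1
      set a := n * x * n⁻¹ with ha
      set b := n ^ 2 * x * (n ^ 2)⁻¹ with hb
      have haP : a ∈ P := (Subgroup.mem_normalizer_iff.mp hn x).mp hx
      have hbP : b ∈ P := (Subgroup.mem_normalizer_iff.mp (pow_mem hn 2) x).mp hx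
      by_contra hcon
      have h1 : a ≠ x := fun e => hnC (hfix n hn x hx hx1 e)
      have h2 : b ≠ x := fun e => hn2 (hfix _ (pow_mem hn 2) x hx hx1 e)
      have h3 : b ≠ a := fun e => h1 (by
        apply mul_left_cancel (a := n)
        apply mul_right_cancel (b := n⁻¹)
        calc n * a * n⁻¹ = b := by rw [ha, hb]; simp [pow_two, mul_assoc]
          _ = n * x * n⁻¹ := e)
      have h4 : a ≠ 1 := fun e => hx1 (by simpa [ha] using e)
      have h5 : b ≠ 1 := fun e => hx1 (by simpa [hb] using e)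
      have h6 : y ≠ x := fun e => hcon (e ▸ IsConj.refl x)
      have h7 : y ≠ a := fun e => hcon (isConj_iff.mpr ⟨n, e.symm⟩)
      have h8 : y ≠ b := fun e => hcon (isConj_iff.mpr ⟨n ^ 2, e.symm⟩)
      let f : Fin 5 → (P : Subgroup G) :=
        ![⟨1, one_mem _⟩, ⟨x, hx⟩, ⟨a, haP⟩, ⟨b, hbP⟩, ⟨y, hy⟩]
      have hf : Function.Injective f := by
        intro i j hij
        have hij' : (f i : G) = (f j : G) := congrArg Subtype.val hij
        fin_cases i <;> fin_cases j <;> simp [f] at hij' ⊢ <;>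
          first
            | exact hx1 hij' | exact h4 hij' | exact h5 hij' | exact hy1 hij' | exact h1 hij'
            | exact h2 hij' | exact h6 hij' | exact h3 hij' | exact h7 hij' | exact h8 hij'
            | exact hx1 hij'.symm | exact h4 hij'.symm | exact h5 hij'.symm | exact hy1 hij'.symm
            | exact h1 hij'.symm | exact h2 hij'.symm | exact h6 hij'.symm | exact h3 hij'.symm
            | exact h7 hij'.symm | exact h8 hij'.symm
      have := Nat.card_le_card_of_injective f hf
      rw [Nat.card_fin, hcard] at this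
      omega
    refine ⟨fun s t hs ht => ?_, ?_⟩
    · have hinto : ∀ s : G, orderOf s = 2 → ∃ x ∈ P, IsConj s x ∧ x ≠ 1 := by
        intro s hs
        obtain ⟨Q, hQ⟩ := (IsPGroup.of_card (p := 2) (n := 1) (by rw [Nat.card_zpowers, hs, pow_one] :
          Nat.card (Subgroup.zpowers s) = 2 ^ 1)).exists_le_sylow
        obtain ⟨g, hg⟩ := MulAction.exists_smul_eq G Q P
        refine ⟨g * s * g⁻¹, hg ▸ ⟨s, hQ (Subgroup.mem_zpowers s), rfl⟩, isConj_iff.mpr ⟨g, rfl⟩, ?_⟩
        exact ne_one_of_orderOf_two ((orderOf_conj_eq g s).trans hs)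
      obtain ⟨x, hx, hsx, hx1⟩ := hinto s hs
      obtain ⟨y, hy, hty, hy1⟩ := hinto t ht
      exact (hsx.trans (hconjP x hx hx1 y hy hy1)).trans hty.symm
    · rintro ⟨N, hN, hc⟩
      apply hnC
      refine Subgroup.mem_centralizer_iff.mpr fun x hx => ?_
      -- in `G / N ≅ P` the image of `n x n⁻¹` is the image of `x`
      have hx' : n * x * n⁻¹ ∈ P := (Subgroup.mem_normalizer_iff.mp hn x).mp hx
      obtain ⟨⟨⟨u, hu⟩, ⟨v, hv⟩⟩, huv⟩ := hc.surjective n
      have hmem : (n * x * n⁻¹) * x⁻¹ ∈ N := by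
        have e : (n * x * n⁻¹) * x⁻¹ = u * (x * u⁻¹ * x⁻¹) := by
          have hvx : v * x * v⁻¹ = x := by rw [hcomm v hv x hx, mul_inv_cancel_right]
          calc (n * x * n⁻¹) * x⁻¹ = u * (v * x * v⁻¹) * u⁻¹ * x⁻¹ := by
                rw [← huv]; simp [mul_assoc]
            _ = _ := by rw [hvx]; simp [mul_assoc]
        rw [e]
        exact mul_mem hu (hN.conj_mem _ (inv_mem hu) x)
      have hd := Subgroup.disjoint_def.mp hc.disjoint hmem (mul_mem hx' (inv_mem hx))
      exact (mul_inv_eq_iff_eq_mul.mp (mul_inv_eq_one.mp hd)).symm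

end Cfsg.Agent.H28

namespace Cfsg.Agent.H28

variable {G : Type*} [Group G] [Finite G]

/-- The involution classes counted: one or three, and three exactly with a normal complement. -/
theorem klein_sylow_class_count (P : Sylow 2 G) (hP : IsKleinFour (P : Subgroup G)) :
    (Nat.card {C : ConjClasses G // ∃ t : G, orderOf t = 2 ∧ ConjClasses.mk t = C} = 1 ∧
      ¬ ∃ N : Subgroup G, N.Normal ∧ Subgroup.IsComplement' N (P : Subgroup G)) ∨
    (Nat.card {C : ConjClasses G // ∃ t : G, orderOf t = 2 ∧ ConjClasses.mk t = C} = 3 ∧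
      ∃ N : Subgroup G, N.Normal ∧ Subgroup.IsComplement' N (P : Subgroup G)) := by
  classical
  haveI : Fact (Nat.Prime 2) := ⟨Nat.prime_two⟩
  have hsq : ∀ x : (P : Subgroup G), x * x = 1 := fun x => by
    have h := Monoid.pow_exponent_eq_one x
    rwa [hP.exponent_two, pow_two] at h
  have hord : ∀ x : (P : Subgroup G), x ≠ 1 → orderOf (x : G) = 2 := fun x hx => by
    rw [Subgroup.orderOf_coe]
    exact orderOf_two_of_mul_self (hsq x) hx
  obtain ⟨x₀, hx₀⟩ : ∃ x : (P : Subgroup G), x ≠ 1 := by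
    haveI : Nontrivial (P : Subgroup G) :=
      Finite.one_lt_card_iff_nontrivial.mp (by rw [hP.card_four]; norm_num)
    exact exists_ne 1
  rcases klein_sylow_dichotomy P hP with ⟨hone, hno⟩ | ⟨hthree, hN⟩
  · refine Or.inl ⟨?_, hno⟩
    rw [Nat.card_eq_one_iff_unique]
    refine ⟨⟨fun A B => ?_⟩, ⟨⟨ConjClasses.mk (x₀ : G), x₀, hord x₀ hx₀, rfl⟩⟩⟩
    obtain ⟨a, ha, hA⟩ := A.2
    obtain ⟨b, hb, hB⟩ := B.2
    exact Subtype.ext (by rw [← hA, ← hB, ConjClasses.mk_eq_mk_iff_isConj]; exact hone a b ha hb)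
  · refine Or.inr ⟨?_, hN⟩
    let f : {x : (P : Subgroup G) // x ≠ 1} →
        {C : ConjClasses G // ∃ t : G, orderOf t = 2 ∧ ConjClasses.mk t = C} :=
      fun x => ⟨ConjClasses.mk (x.1 : G), x.1, hord x.1 x.2, rfl⟩
    have hf : Function.Bijective f := by
      constructor
      · intro a b h
        have h' := ConjClasses.mk_eq_mk_iff_isConj.mp (congrArg Subtype.val h)
        exact Subtype.ext (Subtype.ext (hthree _ a.1.2 _ b.1.2 h'))
      · rintro ⟨C, t, ht, rfl⟩
        obtain ⟨Q, hQ⟩ := (IsPGroup.of_card (p := 2) (n := 1)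
          (by rw [Nat.card_zpowers, ht, pow_one] :
            Nat.card (Subgroup.zpowers t) = 2 ^ 1)).exists_le_sylow
        obtain ⟨g, hg⟩ := MulAction.exists_smul_eq G Q P
        have hmem : g * t * g⁻¹ ∈ (P : Subgroup G) :=
          hg ▸ ⟨t, hQ (Subgroup.mem_zpowers t), rfl⟩
        refine ⟨⟨⟨_, hmem⟩, fun e => ?_⟩, Subtype.ext ?_⟩
        · exact ne_one_of_orderOf_two ((orderOf_conj_eq g t).trans ht) (congrArg Subtype.val e)
        · exact ConjClasses.mk_eq_mk_iff_isConj.mpr (isConj_iff.mpr ⟨g, rfl⟩).symm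
    rw [← Nat.card_eq_of_bijective f hf]
    haveI := Fintype.ofFinite (P : Subgroup G)
    rw [Nat.card_eq_fintype_card, Fintype.card_subtype_compl, Fintype.card_subtype_eq,
      ← Nat.card_eq_fintype_card, hP.card_four]

end Cfsg.Agent.H28
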